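/- Elements with class sizes not divisible by `p ^ 2`: counting in a Sylow subgroup. -/
import Cfsg.Agent.ClassCoprime69.Basic
import Cfsg.Agent.PiClasses69.Parts
import Cfsg.Agent.FgsSix.Frobenius

set_option autoImplicit false

namespace CfsgLib.SquarefreeClasses69

open Subgroup CfsgLib.ClassCoprime69 CfsgLib.PiClasses69

variable {G : Type*} [Group G] [Finite G] {p : ℕ} [Fact p.Prime]

theorem isPi_singleton_iff {u : G} : IsPi {p} u ↔ ∃ k : ℕ, orderOf u = p ^ k := by
  refine ⟨fun h => ⟨_, Nat.eq_prime_pow_of_unique_prime_dvd (orderOf_pos u).ne'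
    fun {r} hr hrd => h r hr hrd⟩, fun ⟨k, hk⟩ q hq hd => ?_⟩
  rw [hk] at hd
  exact (Nat.prime_dvd_prime_iff_eq hq Fact.out).mp (hq.dvd_of_dvd_pow hd)

omit [Finite G] in
theorem isPiCompl_singleton_iff {w : G} : IsPiCompl {p} w ↔ ¬ p ∣ orderOf w :=
  ⟨fun h hd => h p Fact.out hd rfl, fun h q _ hd (hq : q = p) => h (hq ▸ hd)⟩

/-- The number of `p'`-elements commuting with `u`. -/
noncomputable def numCompl (p : ℕ) (u : G) : ℕ := Nat.card {w : G // IsPiCompl {p} w ∧ Commute u w}

/-- The number of `p`-elements commuting with `u` and `w`. -/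
noncomputable def numPi (p : ℕ) (u w : G) : ℕ :=
  Nat.card {v : G // IsPi {p} v ∧ Commute v w ∧ Commute u v}

open scoped Classical in
theorem card_eq_sum_numCompl [Fintype G] (p : ℕ) [Fact p.Prime] :
    Nat.card G = ∑ u ∈ Finset.univ.filter (fun u : G => IsPi {p} u), numCompl p u := by
  rw [Finset.sum_subtype (p := fun u : G => IsPi {p} u) _ (by simp)]
  simp only [numCompl]
  rw [← Nat.card_sigma]
  exact Nat.card_congr
    { toFun := fun g => ⟨⟨piPart {p} g, isPi_piPart _ g⟩,
        piComplPart {p} g, isPiCompl_piComplPart _ g, commute_parts _ g⟩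
      invFun := fun z => z.1.1 * z.2.1
      left_inv := fun g => piPart_mul _ g
      right_inv := fun ⟨⟨u, hu⟩, w, hw, hc⟩ => by
        obtain ⟨e1, e2⟩ := piPart_of_commute {p} hu hw hc
        exact Sigma.subtype_ext (Subtype.ext e1) e2 }

open scoped Classical in
theorem sum_numPi_le [Fintype G] (u : G) :
    ∑ w : {w : G // IsPiCompl {p} w ∧ Commute u w}, numPi p u w.1 ≤
      Nat.card (centralizer ({u} : Set G)) := by
  simp only [numPi]
  rw [← Nat.card_sigma]
  refine Nat.card_le_card_of_injective (fun z => ⟨z.2.1 * z.1.1, mem_Cx.mpr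
    (Commute.mul_right z.2.2.2.2 z.1.2.2).eq.symm⟩) ?_
  rintro ⟨⟨w, hw, hw'⟩, v, hv, hv', hv''⟩ ⟨⟨x, hx, hx'⟩, z, hz, hz', hz''⟩ e
  have e' : v * w = z * x := congrArg Subtype.val e
  have e1 := piPart_of_commute {p} hv hw hv'
  have e2 := piPart_of_commute {p} hz hx hz'
  rw [e'] at e1
  exact Sigma.subtype_ext (Subtype.ext (e1.2.symm.trans e2.2)) (e1.1.symm.trans e2.1)

/-- A finite group has at least `|G|_p` elements of `p`-power order. -/
theorem pow_le_numPi {H : Subgroup G} {u w : G} (hu : ∀ h ∈ H, Commute u h)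
    (hw : ∀ h ∈ H, Commute h w) {k : ℕ} (hk : p ^ k ∣ Nat.card H) : p ^ k ≤ numPi p u w := by
  obtain ⟨T, hT⟩ := Sylow.exists_subgroup_card_pow_prime p hk
  rw [← hT]
  refine Nat.card_le_card_of_injective (fun t : T => ⟨((t : H) : G),
    isPi_singleton_iff.mpr ?_, hw _ (t : H).2, hu _ (t : H).2⟩)
    (fun a b e => Subtype.ext (Subtype.ext
      (congrArg (fun z : {v : G // IsPi {p} v ∧ Commute v w ∧ Commute u v} => z.1) e)))
  obtain ⟨j, hj⟩ := IsPGroup.iff_orderOf.mp (IsPGroup.of_card hT) t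
  exact ⟨j, by rw [← hj, Subgroup.orderOf_coe, Subgroup.orderOf_coe]⟩

variable (hcls : ∀ g : G, ¬ p ^ 2 ∣ cs g)
include hcls

theorem pow_dvd_card_centralizer {e : ℕ} (he : p ^ e ∣ Nat.card G) (g : G) :
    p ^ (e - 1) ∣ Nat.card (centralizer ({g} : Set G)) := by
  have hp : p.Prime := Fact.out
  rw [← (centralizer ({g} : Set G)).index_mul_card] at he
  obtain ⟨a, b, ha, hb, hab⟩ : ∃ a b, p ^ a ∣ (centralizer ({g} : Set G)).index ∧
      p ^ b ∣ Nat.card (centralizer ({g} : Set G)) ∧ e = a + b := by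
    obtain ⟨d1, d2, h1, h2, h3⟩ := Nat.dvd_mul.mp he
    obtain ⟨i, -, hi⟩ := (Nat.dvd_prime_pow hp).mp ⟨d2, h3.symm⟩
    obtain ⟨j, -, hj⟩ := (Nat.dvd_prime_pow hp).mp (Dvd.intro_left d1 h3)
    rw [hi, hj, ← pow_add] at h3
    exact ⟨i, j, hi ▸ h1, hj ▸ h2, (Nat.pow_right_injective hp.two_le h3).symm⟩
  refine (pow_dvd_pow p ?_).trans hb
  by_contra hlt
  exact hcls g ((pow_dvd_pow p (by omega)).trans ha)

/-- The key bound: the `p'`-elements of `C(u)`. -/
theorem numCompl_bound {e f m : ℕ} (he : p ^ e ∣ Nat.card G) {u : G} (hu : IsPi {p} u)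
    (hC : Nat.card (centralizer ({u} : Set G)) = p ^ f * m) (hm : ¬ p ∣ m) :
    ∃ a : ℕ, numCompl p u = a * m ∧ 0 < a ∧ (f + 1 = e → a = 1) ∧ (f = e → 0 < e → a < p) := by
  classical
  haveI := Fintype.ofFinite G
  have hp : p.Prime := Fact.out
  set C := centralizer ({u} : Set G) with hCdef
  have hnum : numCompl p u = Nat.card {w : C // w ^ m = 1} := by
    refine Nat.card_congr
      { toFun := fun w => ⟨⟨w.1, mem_Cx.mpr w.2.2.eq.symm⟩, ?_⟩
        invFun := fun w => ⟨(w.1 : G), ?_, (mem_Cx.mp w.1.2).symm⟩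
        left_inv := fun w => rfl
        right_inv := fun w => rfl }
    · refine Subtype.ext ?_
      rw [Subgroup.coe_pow, Subgroup.coe_one, ← orderOf_dvd_iff_pow_eq_one]
      have h1 : orderOf w.1 ∣ p ^ f * m := hC ▸ Subgroup.orderOf_dvd_natCard C (mem_Cx.mpr w.2.2.eq.symm)
      exact ((hp.coprime_iff_not_dvd.mpr (isPiCompl_singleton_iff.mp w.2.1)).pow_left f).symm.dvd_of_dvd_mul_left h1
    · rw [isPiCompl_singleton_iff]
      exact fun hd => hm (hd.trans (orderOf_dvd_of_pow_eq_one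
        (by simpa using congrArg Subtype.val w.2)))
  obtain ⟨a, ha⟩ : m ∣ numCompl p u := hnum ▸ CfsgLib.FgsSix.dvd_card_pow_eq_one m ⟨p ^ f, by rw [hC, mul_comm]⟩
  let one' : {w : G // IsPiCompl {p} w ∧ Commute u w} :=
    ⟨1, isPiCompl_one, Commute.one_right u⟩
  have hsum := sum_numPi_le (p := p) u
  have hge : ∀ w : {w : G // IsPiCompl {p} w ∧ Commute u w}, p ^ (e - 1) ≤ numPi p u w.1 := by
    intro w
    refine pow_le_numPi (H := centralizer ({u * w.1} : Set G)) (fun h hh => ?_) (fun h hh => ?_)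
      (pow_dvd_card_centralizer hcls he _)
    · have := commute_piPart {p} (mem_Cx.mp hh : Commute h (u * w.1))
      rw [(piPart_of_commute {p} hu w.2.1 w.2.2).1] at this
      exact this.symm
    · have := commute_piComplPart {p} (mem_Cx.mp hh : Commute h (u * w.1))
      rwa [(piPart_of_commute {p} hu w.2.1 w.2.2).2] at this
  have h1 : p ^ f ≤ numPi p u one'.1 :=
    pow_le_numPi (H := C) (fun h hh => (mem_Cx.mp hh).symm) (fun h _ => Commute.one_right h)
      ⟨m, hC⟩
  have hcard : Fintype.card {w : G // IsPiCompl {p} w ∧ Commute u w} = a * m := by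
    rw [← Nat.card_eq_fintype_card, mul_comm]; exact ha
  have hm0 : 0 < m := Nat.pos_of_ne_zero fun h0 => hm (h0 ▸ dvd_zero p)
  have hpos : 0 < a * m := hcard ▸ Fintype.card_pos_iff.mpr ⟨one'⟩
  have hlow : a * m * p ^ (e - 1) ≤ p ^ f * m := by
    refine le_trans ?_ (hsum.trans hC.le)
    rw [← hcard, ← smul_eq_mul, ← Finset.card_univ]
    exact Finset.card_nsmul_le_sum _ _ _ fun w _ => hge w
  refine ⟨a, by rw [ha, mul_comm], Nat.pos_of_mul_pos_right hpos, fun hf => ?_, fun hf he0 => ?_⟩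
  · rw [show e - 1 = f by omega, mul_comm (p ^ f) m, mul_comm a m, mul_assoc] at hlow
    have h2 := Nat.le_of_mul_le_mul_left hlow hm0
    have h3 : 0 < p ^ f := pow_pos hp.pos f
    have h4 : a ≤ 1 := Nat.le_of_mul_le_mul_right (by rwa [one_mul]) h3
    have := Nat.pos_of_mul_pos_right hpos
    omega
  · subst hf
    have hlt : p ^ (f - 1) < p ^ f := Nat.pow_lt_pow_right hp.one_lt (by omega)
    have h2 : a * m * p ^ (f - 1) < p ^ f * m := by
      refine lt_of_lt_of_le ?_ (hsum.trans hC.le)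
      rw [← hcard, ← smul_eq_mul, ← Finset.card_univ, ← Finset.sum_const]
      exact Finset.sum_lt_sum (fun w _ => hge w) ⟨one', Finset.mem_univ _, lt_of_lt_of_le hlt h1⟩
    obtain ⟨f', rfl⟩ := Nat.exists_eq_succ_of_ne_zero he0.ne'
    rw [Nat.succ_sub_one, mul_comm a m, mul_assoc, pow_succ', mul_comm _ m,
      Nat.mul_lt_mul_left hm0] at h2
    exact Nat.lt_of_mul_lt_mul_right h2

/-- Outside a small set every element of a Sylow subgroup has few conjugates and controls its
fusion. -/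
theorem exists_fusion_set (hpG : p ∣ Nat.card G) (P : Sylow p G) :
    ∃ F : Set G, F ⊆ (P : Subgroup G) ∧
      (∀ v ∈ F, ∀ w ∈ F, ∀ g : G, w = g * v * g⁻¹ → ∃ h ∈ (P : Subgroup G), w = h * v * h⁻¹) ∧
      (∀ v ∈ F, (centralizer ({v} : Set G)).relIndex (P : Subgroup G) ∣ p) ∧
      Nat.card (P : Subgroup G) ≤ (p - 1) * F.ncard ∧
      ∃ Z : Set G, (∀ z ∈ Z, z ∈ (P : Subgroup G) ∧ ∀ h ∈ (P : Subgroup G), Commute h z) ∧
        Nat.card (P : Subgroup G) ≤ F.ncard + (p - 2) * Z.ncard := by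
  classical
  haveI := Fintype.ofFinite G
  have hp : p.Prime := Fact.out
  set e := (Nat.card G).factorization p with he
  have hPe : Nat.card (P : Subgroup G) = p ^ e := by
    rw [he]; exact P.card_eq_multiplicity
  have he0 : 0 < e := hp.factorization_pos_of_dvd Nat.card_pos.ne' hpG
  have hedvd : p ^ e ∣ Nat.card G := hPe ▸ card_subgroup_dvd_card _
  obtain ⟨mG, hmG⟩ := hedvd
  let I := (Finset.univ.filter (fun u : G => IsPi {p} u)).image (ConjClasses.mk : G → ConjClasses G)
  -- a fully centralised representative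
  have hrep : ∀ c ∈ I, ∃ v : G, v ∈ (P : Subgroup G) ∧ ConjClasses.mk v = c ∧ IsPi {p} v ∧
      ∃ f m : ℕ, Nat.card (centralizer ({v} : Set G)) = p ^ f * m ∧ ¬ p ∣ m ∧
        (f = e ∨ f + 1 = e) ∧
        Nat.card ↥((P : Subgroup G) ⊓ centralizer ({v} : Set G)) = p ^ f := by
    intro c hc
    obtain ⟨u, hu, rfl⟩ := Finset.mem_image.mp hc
    have hu : IsPi {p} u := (Finset.mem_filter.mp hu).2
    set C := centralizer ({u} : Set G)
    obtain ⟨k, hk⟩ := isPi_singleton_iff.mp hu
    have hU : IsPGroup p (zpowers (⟨u, mem_Cx_self u⟩ : C)) :=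
      IsPGroup.of_card (n := k) (by rw [Nat.card_zpowers, Subgroup.orderOf_mk, hk])
    obtain ⟨S, hS⟩ := hU.exists_le_sylow
    obtain ⟨Q, hQ⟩ := (S.isPGroup'.map C.subtype).exists_le_sylow
    obtain ⟨g, hg⟩ := MulAction.exists_smul_eq G Q P
    have hmem : ∀ x ∈ (Q : Subgroup G), g * x * g⁻¹ ∈ (P : Subgroup G) := by
      intro x hx
      rw [← hg, Sylow.coe_subgroup_smul, mem_pointwise_smul_iff_inv_smul_mem]
      have : (MulAut.conj g)⁻¹ • (g * x * g⁻¹) = x := by simp [MulAut.smul_def, mul_assoc]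
      rwa [this]
    set f := (Nat.card C).factorization p
    have hSc : Nat.card (S : Subgroup C) = p ^ f := S.card_eq_multiplicity
    obtain ⟨m, hm⟩ : p ^ f ∣ Nat.card C := Nat.ordProj_dvd _ _
    have hCc : Nat.card (centralizer ({g * u * g⁻¹} : Set G)) = Nat.card C := by
      have h1 := (centralizer ({g * u * g⁻¹} : Set G)).index_mul_card
      have h2 := C.index_mul_card
      rw [← h2] at h1
      change cs (g * u * g⁻¹) * _ = cs u * _ at h1
      rw [cs_conj] at h1
      exact Nat.eq_of_mul_eq_mul_left (cs_pos u) h1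
    have hm' : ¬ p ∣ m := fun hd => by
      have h1 : p ^ (f + 1) ∣ Nat.card C := by
        rw [hm, pow_succ]; exact Nat.mul_dvd_mul_left _ hd
      have := (hp.pow_dvd_iff_le_factorization Nat.card_pos.ne').mp h1
      omega
    have hfe : f ≤ e := (Nat.factorization_le_iff_dvd Nat.card_pos.ne' Nat.card_pos.ne').mpr
      (card_subgroup_dvd_card C) p
    have hfe' : e - 1 ≤ f := (hp.pow_dvd_iff_le_factorization Nat.card_pos.ne').mp
      (pow_dvd_card_centralizer hcls ⟨mG, hmG⟩ u)
    have huS : u ∈ (S : Subgroup C).map C.subtype :=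
      mem_map.mpr ⟨⟨u, mem_Cx_self u⟩, hS (mem_zpowers _), rfl⟩
    refine ⟨g * u * g⁻¹, hmem u (hQ huS), ConjClasses.mk_eq_mk_iff_isConj.mpr
      (isConj_iff.mpr ⟨g, rfl⟩).symm, fun q hq hd => hu q hq (orderOf_of_mem_cls ⟨g, rfl⟩ ▸ hd),
      f, m, hCc.trans hm, hm', by omega, le_antisymm ?_ ?_⟩
    · obtain ⟨j, hj⟩ := IsPGroup.iff_card.mp (P.isPGroup'.to_le (inf_le_left :
        (P : Subgroup G) ⊓ centralizer ({g * u * g⁻¹} : Set G) ≤ _))
      rw [hj]
      refine Nat.pow_le_pow_right hp.pos ?_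
      have : p ^ j ∣ Nat.card C := hCc ▸ hj ▸ card_dvd_of_le inf_le_right
      exact (hp.pow_dvd_iff_le_factorization Nat.card_pos.ne').mp this
    · rw [← hSc]
      exact Nat.card_le_card_of_injective (fun s : (S : Subgroup C) =>
        (⟨g * ((s : C) : G) * g⁻¹, mem_inf.mpr ⟨hmem _ (hQ (mem_map_of_mem _ s.2)),
          conj_mem_Cx_conj (s : C).2⟩⟩ :
          ↥((P : Subgroup G) ⊓ centralizer ({g * u * g⁻¹} : Set G))))
        (fun a b e => Subtype.ext (Subtype.ext (mul_left_cancel (mul_right_cancel (congrArg Subtype.val e)))))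
  choose! r hrP hrc hrπ f m hrC hm hf hrK using hrep
  -- the number of `p'`-elements in each centralizer
  choose! a ha using fun c (hc : c ∈ I) =>
    numCompl_bound hcls ⟨mG, hmG⟩ (hrπ c hc) (hrC c hc) (hm c hc)
  have hsum : ∑ c ∈ I, a c * p ^ (e - f c) = p ^ e := by
    have h1 := card_eq_sum_numCompl (G := G) p
    rw [← Finset.sum_fiberwise_of_maps_to (t := I) (g := (ConjClasses.mk : G → ConjClasses G))
      (fun x hx => Finset.mem_image_of_mem _ hx)] at h1
    have h2 : ∀ c ∈ I, ∑ u ∈ (Finset.univ.filter (fun u : G => IsPi {p} u)).filter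
        (fun u => ConjClasses.mk u = c), numCompl p u = a c * p ^ (e - f c) * mG := by
      intro c hc
      have h3 : ∀ u, ConjClasses.mk u = c → numCompl p u = numCompl p (r c) := by
        intro u hu
        obtain ⟨g, hg⟩ := isConj_iff.mp (ConjClasses.mk_eq_mk_iff_isConj.mp (hu.trans (hrc c hc).symm))
        rw [← hg]
        refine Nat.card_congr ((MulAut.conj g).toEquiv.subtypeEquiv fun w => and_congr ?_ ?_)
        · rw [isPiCompl_singleton_iff, isPiCompl_singleton_iff]
          exact not_congr (by rw [show orderOf ((MulAut.conj g).toEquiv w) = orderOf w from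
            MulEquiv.orderOf_eq _ _])
        · show Commute u w ↔ Commute (g * u * g⁻¹) (g * w * g⁻¹)
          exact (Commute.conj_iff g).symm
      have hset : ((Finset.univ.filter (fun u : G => IsPi {p} u)).filter
          (fun u => ConjClasses.mk u = c)).card = cs (r c) := by
        rw [← card_cls, Finset.filter_filter, Nat.card_coe_set_eq, Set.ncard_eq_toFinset_card']
        congr 1
        ext u
        simp only [Finset.mem_filter, Finset.mem_univ, true_and, Set.mem_toFinset]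
        constructor
        · intro hu
          obtain ⟨g, hg⟩ := isConj_iff.mp (ConjClasses.mk_eq_mk_iff_isConj.mp ((hrc c hc).trans hu.2.symm))
          exact ⟨g, hg⟩
        · intro hu
          refine ⟨fun q hq hd => hrπ c hc q hq (orderOf_of_mem_cls hu ▸ hd), ?_⟩
          obtain ⟨g, hg⟩ := hu
          rw [← hrc c hc]
          exact (ConjClasses.mk_eq_mk_iff_isConj.mpr (isConj_iff.mpr ⟨g, hg⟩)).symm
      rw [Finset.sum_eq_card_nsmul fun u hu => h3 u (Finset.mem_filter.mp hu).2, hset, smul_eq_mul,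
        (ha c hc).1]
      have h4 := (centralizer ({r c} : Set G)).index_mul_card
      rw [hrC c hc, hmG] at h4
      change cs (r c) * _ = _ at h4
      have h5 : cs (r c) * m c = p ^ (e - f c) * mG := by
        refine Nat.eq_of_mul_eq_mul_left (pow_pos hp.pos (f c)) ?_
        rw [← mul_assoc (p ^ f c) (p ^ (e - f c)), ← pow_add,
          Nat.add_sub_cancel' (by have := hf c hc; omega), ← h4]
        ring
      rw [show cs (r c) * (a c * m c) = a c * (cs (r c) * m c) by ring, h5]; ring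
    rw [Finset.sum_congr rfl h2, ← Finset.sum_mul, hmG] at h1
    refine (Nat.eq_of_mul_eq_mul_right (Nat.pos_of_ne_zero fun h0 => ?_) h1).symm
    rw [h0, mul_zero] at hmG; exact Nat.card_pos.ne' hmG
  let K : ConjClasses G → Finset G := fun c =>
    Finset.univ.filter (fun v => ∃ h ∈ (P : Subgroup G), v = h * r c * h⁻¹)
  have hKrel : ∀ c ∈ I, (centralizer ({r c} : Set G)).relIndex (P : Subgroup G) = p ^ (e - f c) := by
    intro c hc
    have h1 := relIndex_mul_relIndex ⊥ ((P : Subgroup G) ⊓ centralizer ({r c} : Set G))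
      (P : Subgroup G) bot_le inf_le_left
    rw [relIndex_bot_left, relIndex_bot_left, inf_relIndex_left, hrK c hc, hPe] at h1
    refine Nat.eq_of_mul_eq_mul_left (pow_pos hp.pos (f c)) ?_
    rw [h1, ← pow_add, Nat.add_sub_cancel' (by have := hf c hc; omega)]
  have hKcard : ∀ c ∈ I, (K c).card = p ^ (e - f c) := by
    intro c hc
    rw [← hKrel c hc, relIndex]
    have h1 : ((centralizer ({r c} : Set G)).subgroupOf (P : Subgroup G)) =
        centralizer ({(⟨r c, hrP c hc⟩ : (P : Subgroup G))} : Set (P : Subgroup G)) := by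
      ext h
      rw [mem_subgroupOf, mem_Cx, mem_Cx, Subtype.ext_iff]
      rfl
    rw [h1]
    change _ = cs (⟨r c, hrP c hc⟩ : (P : Subgroup G))
    rw [← card_cls, Nat.card_coe_set_eq, ← Set.ncard_coe_finset,
      ← Set.ncard_image_of_injective _ (P : Subgroup G).subtype_injective]
    congr 1
    ext v
    constructor
    · intro hv
      obtain ⟨h, hh, rfl⟩ := (Finset.mem_filter.mp hv).2
      exact ⟨_, ⟨⟨h, hh⟩, rfl⟩, rfl⟩
    · rintro ⟨_, ⟨h, rfl⟩, rfl⟩
      exact Finset.mem_filter.mpr ⟨Finset.mem_univ _, h, h.2, rfl⟩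
  have hmk : ∀ c ∈ I, ∀ v ∈ K c, ConjClasses.mk v = c := by
    intro c hc v hv
    obtain ⟨h, -, rfl⟩ := (Finset.mem_filter.mp hv).2
    exact (ConjClasses.mk_eq_mk_iff_isConj.mpr (isConj_iff.mpr ⟨h, rfl⟩)).symm.trans (hrc c hc)
  have hdisj : (I : Set (ConjClasses G)).PairwiseDisjoint K := fun c hc d hd hne =>
    Finset.disjoint_left.mpr fun v h1 h2 => hne ((hmk c hc v h1).symm.trans (hmk d hd v h2))
  set F := I.biUnion K
  have hFcard : F.card = ∑ c ∈ I, p ^ (e - f c) := by
    rw [Finset.card_biUnion hdisj]; exact Finset.sum_congr rfl hKcard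
  refine ⟨(F : Set G), ?_, ?_, ?_, ?_, ?_⟩
  · intro v hv
    obtain ⟨c, hc, hvc⟩ := Finset.mem_biUnion.mp hv
    obtain ⟨h, hh, rfl⟩ := (Finset.mem_filter.mp hvc).2
    exact mul_mem (mul_mem hh (hrP c hc)) (inv_mem hh)
  · intro v hv w hw g hg
    obtain ⟨c, hc, hvc⟩ := Finset.mem_biUnion.mp hv
    obtain ⟨d, hd, hwd⟩ := Finset.mem_biUnion.mp hw
    have hcd : c = d := by
      rw [← hmk c hc v hvc, ← hmk d hd w hwd]
      exact ConjClasses.mk_eq_mk_iff_isConj.mpr (isConj_iff.mpr ⟨g, hg.symm⟩)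
    subst hcd
    obtain ⟨h, hh, rfl⟩ := (Finset.mem_filter.mp hvc).2
    obtain ⟨k, hk, rfl⟩ := (Finset.mem_filter.mp hwd).2
    exact ⟨k * h⁻¹, mul_mem hk (inv_mem hh), by group⟩
  · intro v hv
    obtain ⟨c, hc, hvc⟩ := Finset.mem_biUnion.mp hv
    obtain ⟨h, hh, rfl⟩ := (Finset.mem_filter.mp hvc).2
    have h1 : (centralizer ({h * r c * h⁻¹} : Set G)).relIndex (P : Subgroup G) =
        (centralizer ({r c} : Set G)).relIndex (P : Subgroup G) := by
      let φ : (P : Subgroup G) ≃* (P : Subgroup G) := MulAut.conj ⟨h, hh⟩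
      rw [relIndex, relIndex, ← index_map_equiv ((centralizer ({r c} : Set G)).subgroupOf _) φ]
      congr 1
      ext k
      change k ∈ (centralizer ({h * r c * h⁻¹} : Set G)).subgroupOf (P : Subgroup G) ↔
        k ∈ Subgroup.map φ.toMonoidHom ((centralizer ({r c} : Set G)).subgroupOf (P : Subgroup G))
      rw [mem_map_equiv, mem_subgroupOf, mem_subgroupOf]
      rw [show ((φ.symm k : (P : Subgroup G)) : G) = h⁻¹ * (k : G) * h⁻¹⁻¹ by simp [φ]]
      constructor
      · intro hk
        have := conj_mem_Cx_conj (g := h⁻¹) hk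
        rwa [show h⁻¹ * (h * r c * h⁻¹) * h⁻¹⁻¹ = r c by group] at this
      · intro hk
        have := conj_mem_Cx_conj (g := h) hk
        rwa [show h * (h⁻¹ * k * h⁻¹⁻¹) * h⁻¹ = k by group] at this
    rw [h1, hKrel c hc]
    have := hf c hc
    rcases Nat.le_one_iff_eq_zero_or_eq_one.mp (show e - f c ≤ 1 by omega) with h0 | h0 <;> simp [h0]
  · rw [hPe, ← hsum, Set.ncard_coe_finset, hFcard, Finset.mul_sum]
    refine Finset.sum_le_sum fun c hc => Nat.mul_le_mul_right _ ?_
    rcases hf c hc with h | h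
    · have := (ha c hc).2.2.2 h he0; omega
    · have := (ha c hc).2.2.1 h; have := hp.two_le; omega
  · refine ⟨((I.filter (fun c => f c = e)).image r : Finset G), ?_, ?_⟩
    · intro z hz
      obtain ⟨c, hc, rfl⟩ := Finset.mem_image.mp hz
      obtain ⟨hcI, hce⟩ := Finset.mem_filter.mp hc
      refine ⟨hrP c hcI, fun h hh => ?_⟩
      have h1 := hKrel c hcI
      rw [hce, Nat.sub_self, pow_zero, relIndex_eq_one] at h1
      exact mem_Cx.mp (h1 hh)
    · rw [hPe, ← hsum, Set.ncard_coe_finset, Set.ncard_coe_finset, hFcard,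
        Finset.card_image_of_injOn (fun c hc d hd e => by
          rw [← hrc c (Finset.mem_filter.mp hc).1, ← hrc d (Finset.mem_filter.mp hd).1, e]),
        Finset.card_filter, Finset.mul_sum, ← Finset.sum_add_distrib]
      refine Finset.sum_le_sum fun c hc => ?_
      rcases hf c hc with h | h
      · have := (ha c hc).2.2.2 h he0
        rw [if_pos h, h, Nat.sub_self, pow_zero]; omega
      · rw [(ha c hc).2.2.1 h, one_mul]; exact Nat.le_add_right _ _

end CfsgLib.SquarefreeClasses69
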