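/- The smallest prime when no class size is divisible by its square; solvability. -/
import Cfsg.Agent.SquarefreeClasses69.Counting
import Cfsg.Agent.SolvCrit.HallWielandt
import Cfsg.Agent.Transfer.Tate
import Cfsg.Agent.PiClasses69.PTools

set_option autoImplicit false

namespace CfsgLib.SquarefreeClasses69

open Subgroup CfsgLib.ClassCoprime69 CfsgLib.PiClasses69
open scoped commutatorElement

variable {G : Type*} [Group G] [Finite G]

/-- If no class size is divisible by `4` there is a normal `2`-complement. -/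
theorem hasNormalPComplement_two (hcls : ∀ g : G, ¬ 4 ∣ cs g) (h2 : 2 ∣ Nat.card G) :
    Cfsg.HasNormalPComplement 2 G := by
  haveI := Fact.mk Nat.prime_two
  obtain ⟨P⟩ : Nonempty (Sylow 2 G) := inferInstance
  obtain ⟨F, hFP, hF, -, hcard, -⟩ := exists_fusion_set (p := 2) (by simpa using hcls) h2 P
  have hFeq : F = ((P : Subgroup G) : Set G) := Set.eq_of_subset_of_ncard_le hFP (by
    rw [← Nat.card_coe_set_eq]
    exact hcard.trans_eq (by simp)) (Set.toFinite _)
  refine CfsgLib.Transfer.hasNormalPComplement_of_commutator_inf_le P ?_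
  rw [commutator_inf_eq_focalSubgroup, focalSubgroup_def, closure_le]
  rintro _ ⟨hm, x, hx, u, rfl⟩
  have h1 : u * x⁻¹ * u⁻¹ ∈ (P : Subgroup G) := by
    have := mul_mem (inv_mem hx) hm
    rwa [commutatorElement_def, show x⁻¹ * (x * u * x⁻¹ * u⁻¹) = u * x⁻¹ * u⁻¹ by group] at this
  obtain ⟨k, hk, e⟩ := hF x⁻¹ (hFeq ▸ inv_mem hx) (u * x⁻¹ * u⁻¹) (hFeq ▸ h1) u rfl
  rw [show ⁅x, u⁆ = ⁅x, k⁆ by
    rw [commutatorElement_def, commutatorElement_def,
      show x * u * x⁻¹ * u⁻¹ = x * (u * x⁻¹ * u⁻¹) by group, e]; group]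
  exact commutator_mem_commutator hx hk

theorem no_perfect_of_odd {p : ℕ} [Fact p.Prime] (hp2 : p ≠ 2) (hpG : p ∣ Nat.card G)
    (hmin : ∀ r : ℕ, r.Prime → r ∣ Nat.card G → p ≤ r) (hcls : ∀ g : G, ¬ p ^ 2 ∣ cs g)
    (hperf : _root_.commutator G = ⊤) : False := by
  classical
  have hp : p.Prime := Fact.out
  have hp3 : 3 ≤ p := by have := hp.two_le; omega
  obtain ⟨P⟩ : Nonempty (Sylow p G) := inferInstance
  obtain ⟨F, hFP, hF, hFb, hcard, Z, hZ, hcard2⟩ := exists_fusion_set hcls hpG P
  obtain ⟨e, he⟩ := IsPGroup.iff_card.mp P.isPGroup'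
  have he0 : e ≠ 0 := by
    rintro rfl
    rw [pow_zero] at he
    exact P.not_dvd_index (by
      have := (P : Subgroup G).index_mul_card
      rw [he, mul_one] at this; rwa [this])
  set N := normalizer ((P : Subgroup G) : Set G) with hN
  have hPN : (P : Subgroup G) ≤ N := le_normalizer
  have hbig : ∀ d : ℕ, d ∣ Nat.card G → ¬ p ∣ d → d ≠ 1 → p < d := by
    intro d hd hpd hd1
    obtain ⟨r, hr, hrd⟩ := Nat.exists_prime_and_dvd hd1
    have h1 := hmin r hr (hrd.trans hd)
    have h2 : r ≠ p := fun e => hpd (e ▸ hrd)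
    have h3 := Nat.le_of_dvd (Nat.pos_of_ne_zero fun h0 => hpd (by rw [h0]; exact dvd_zero p)) hrd
    omega
  by_cases hab : IsMulCommutative (P : Subgroup G)
  · have hc : ∀ a ∈ (P : Subgroup G), ∀ b ∈ (P : Subgroup G), Commute a b := fun a ha b hb =>
      congrArg Subtype.val (mul_comm' (⟨a, ha⟩ : (P : Subgroup G)) ⟨b, hb⟩)
    -- non-trivial elements have more than `p` conjugates in `P`
    have horb : ∀ v ∈ (P : Subgroup G), v ≠ 1 → p < Nat.card
        {w : G // w ∈ (P : Subgroup G) ∧ ∃ g : G, w = g * v * g⁻¹} := by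
      intro v hv hv1
      set v' : N := ⟨v, hPN hv⟩
      have hle : (P : Subgroup G).subgroupOf N ≤ centralizer ({v'} : Set N) := fun h hh =>
        mem_Cx.mpr (Subtype.ext (hc _ (mem_subgroupOf.mp hh) v hv).eq)
      have hd : cs v' ∣ (P : Subgroup G).index :=
        (index_dvd_of_le hle).trans (relIndex_dvd_index_of_le hPN)
      have hne : cs v' ≠ 1 := by
        intro h1
        have hfix : ∀ n ∈ N, Commute n v := fun n hn => by
          have := cs_eq_one_iff.mp h1
          exact congrArg Subtype.val (mem_center_iff.mp this ⟨n, hn⟩)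
        open scoped IsMulCommutative in
        have key : ∀ (k : ℕ) (g₀ : G), g₀⁻¹ * v ^ k * g₀ ∈ (P : Subgroup G) →
            g₀⁻¹ * v ^ k * g₀ = v ^ k := by
          intro k g₀ hg
          obtain ⟨n, hn, h⟩ := P.conj_eq_normalizer_conj_of_mem (v ^ k) g₀ (pow_mem hv k) hg
          rw [h, mul_assoc, ← ((hfix n hn).pow_right k).eq, inv_mul_cancel_left]
        open scoped IsMulCommutative in
        have h2 : MonoidHom.transfer (MonoidHom.id (P : Subgroup G)) v =
            (⟨v, hv⟩ : (P : Subgroup G)) ^ (P : Subgroup G).index := by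
          rw [MonoidHom.transfer_eq_pow _ v key]
          exact Subtype.ext (by simp)
        open scoped IsMulCommutative in
        have h3 : MonoidHom.transfer (MonoidHom.id (P : Subgroup G)) v = 1 :=
          Abelianization.commutator_subset_ker _ (hperf ▸ mem_top v : v ∈ _root_.commutator G)
        rw [h3] at h2
        obtain ⟨j, hj⟩ := IsPGroup.iff_orderOf.mp P.isPGroup' ⟨v, hv⟩
        have h4 := orderOf_dvd_of_pow_eq_one h2.symm
        rw [hj] at h4
        rcases Nat.eq_zero_or_pos j with rfl | hj0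
        · rw [pow_zero, orderOf_eq_one_iff] at hj
          exact hv1 (congrArg Subtype.val hj)
        · exact P.not_dvd_index ((dvd_pow_self p hj0.ne').trans h4)
      refine lt_of_lt_of_le (hbig _ (hd.trans (index_dvd_card _))
        (fun h => P.not_dvd_index (h.trans hd)) hne) ?_
      rw [← card_cls]
      refine Nat.card_le_card_of_injective (fun w : cls v' => ⟨((w : N) : G), ?_⟩)
        (fun a b e => Subtype.ext (Subtype.ext (congrArg
          (fun z : {w : G // w ∈ (P : Subgroup G) ∧ ∃ g : G, w = g * v * g⁻¹} => (z : G)) e)))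
      obtain ⟨n, hn⟩ := w.2
      refine ⟨?_, (n : G), by rw [← hn]; rfl⟩
      rw [← hn]
      exact (mem_normalizer_iff.mp n.2 v).mp hv
    haveI := Fintype.ofFinite G
    let Pf := Finset.univ.filter (fun w : G => w ∈ (P : Subgroup G))
    let F' := F.toFinset.erase 1
    let O : G → Finset G := fun v => Pf.filter (fun w => ∃ g : G, w = g * v * g⁻¹)
    have hdisj : (F' : Set G).PairwiseDisjoint O := by
      intro v hv w hw hne
      refine Finset.disjoint_left.mpr fun z h1 h2 => hne ?_
      obtain ⟨g, hg⟩ := (Finset.mem_filter.mp h1).2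
      obtain ⟨k, hk⟩ := (Finset.mem_filter.mp h2).2
      have hvF := Set.mem_toFinset.mp (Finset.mem_of_mem_erase hv)
      have hwF := Set.mem_toFinset.mp (Finset.mem_of_mem_erase hw)
      obtain ⟨h, hh, e'⟩ := hF v hvF w hwF (k⁻¹ * g) (by
        calc w = k⁻¹ * (k * w * k⁻¹) * k := by group
          _ = k⁻¹ * (g * v * g⁻¹) * k := by rw [← hk, hg]
          _ = _ := by group)
      rw [e', (hc h hh v (hFP hvF)).eq, mul_inv_cancel_right]
    have hsub : F'.biUnion O ⊆ Pf.erase 1 := by
      intro z hz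
      obtain ⟨v, hv, hz'⟩ := Finset.mem_biUnion.mp hz
      obtain ⟨hzP, g, hg⟩ := Finset.mem_filter.mp hz'
      refine Finset.mem_erase.mpr ⟨fun h1 => Finset.ne_of_mem_erase hv ?_, hzP⟩
      rw [h1] at hg
      exact conj_eq_one_iff.mp hg.symm
    have hPf : Pf.card = Nat.card (P : Subgroup G) := by
      rw [Nat.card_eq_fintype_card, Fintype.card_subtype]
    have h1 := Finset.card_le_card hsub
    rw [Finset.card_biUnion hdisj, Finset.card_erase_of_mem (by simp [Pf, one_mem]), hPf] at h1
    have h2 : F'.card * (p + 1) ≤ ∑ v ∈ F', (O v).card := by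
      rw [← smul_eq_mul]
      refine Finset.card_nsmul_le_sum _ _ _ fun v hv => ?_
      have h3 := horb v (hFP (Set.mem_toFinset.mp (Finset.mem_of_mem_erase hv))) (Finset.ne_of_mem_erase hv)
      rw [Nat.card_eq_fintype_card, Fintype.card_subtype] at h3
      simp only [O, Pf, Finset.filter_filter]
      exact h3
    have h3 : F.ncard ≤ F'.card + 1 := by
      rw [Set.ncard_eq_toFinset_card']
      have := Finset.pred_card_le_card_erase (a := (1 : G)) (s := F.toFinset)
      show F.toFinset.card ≤ (F.toFinset.erase 1).card + 1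
      omega
    have h4 : 0 < Nat.card (P : Subgroup G) := Nat.card_pos
    have h5 : Nat.card (P : Subgroup G) ≤ (p - 1) * (F'.card + 1) :=
      hcard.trans (Nat.mul_le_mul_left _ h3)
    obtain ⟨q, rfl⟩ : ∃ q, p = q + 3 := ⟨p - 3, by omega⟩
    have hpe : q + 3 ≤ Nat.card (P : Subgroup G) := he ▸ Nat.le_self_pow he0 _
    rw [show q + 3 - 1 = q + 2 by omega] at h5
    have h7 : F'.card ≠ 0 := fun h0 => by rw [h0] at h5; omega
    have h8 : 2 * F'.card ≤ q + 2 := by
      have : F'.card * (q + 3 + 1) + 1 ≤ (q + 2) * (F'.card + 1) := by omega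
      nlinarith
    have h9 : e ≠ 1 := by
      rintro rfl
      rw [pow_one] at he
      have : 1 * (q + 3 + 1) ≤ F'.card * (q + 3 + 1) :=
        Nat.mul_le_mul_right _ (Nat.pos_of_ne_zero h7)
      omega
    have h10 : (q + 3) ^ 2 ≤ Nat.card (P : Subgroup G) :=
      he ▸ Nat.pow_le_pow_right (by omega) (by omega)
    nlinarith
  -- the non-abelian case
  set P0 : Subgroup G := (P : Subgroup G)
  have hZc : p ^ 2 * Z.ncard ≤ Nat.card P0 := by
    have h1 : Z.ncard ≤ Nat.card (center P0) := by
      rw [← Nat.card_coe_set_eq]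
      exact Nat.card_le_card_of_injective (fun z : Z => (⟨⟨z, (hZ z z.2).1⟩, mem_center_iff.mpr
        fun h => Subtype.ext ((hZ z z.2).2 h h.2).eq⟩ : center P0))
        (fun a b e => Subtype.ext (congrArg (fun w : center P0 => ((w : P0) : G)) e))
    have h2 := (center P0).index_mul_card
    obtain ⟨j, -, hj⟩ := (Nat.dvd_prime_pow hp).mp (he ▸ index_dvd_card (center P0))
    have hj2 : 2 ≤ j := by
      by_contra hlt
      have hcyc : IsCyclic (P0 ⧸ center P0) := by
        rcases (show j = 0 ∨ j = 1 by omega) with rfl | rfl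
        · haveI : Subsingleton (P0 ⧸ center P0) :=
            (Nat.card_eq_one_iff_unique.mp (hj.trans (pow_zero p))).1
          infer_instance
        · exact isCyclic_of_prime_card (p := p) (hj.trans (pow_one p))
      exact hab ⟨⟨commutative_of_cyclic_center_quotient (QuotientGroup.mk' (center P0))
        (by rw [QuotientGroup.ker_mk'])⟩⟩
    rw [← h2, hj]
    exact Nat.mul_le_mul (Nat.pow_le_pow_right hp.pos hj2) h1
  have hsmall : p * (Nat.card P0 - F.ncard) < Nat.card P0 := by
    have h0 : 0 < Nat.card P0 := Nat.card_pos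
    have h1 : Nat.card P0 - F.ncard ≤ (p - 2) * Z.ncard := by omega
    have h2 : p * p * (Nat.card P0 - F.ncard) ≤ (p - 2) * Nat.card P0 :=
      calc p * p * (Nat.card P0 - F.ncard) ≤ p * p * ((p - 2) * Z.ncard) := Nat.mul_le_mul_left _ h1
        _ = (p - 2) * (p ^ 2 * Z.ncard) := by ring
        _ ≤ _ := Nat.mul_le_mul_left _ hZc
    have h3 : (p - 2) * Nat.card P0 < p * Nat.card P0 := Nat.mul_lt_mul_of_pos_right (by omega) h0
    rw [mul_assoc] at h2
    exact Nat.lt_of_mul_lt_mul_left (lt_of_le_of_lt h2 h3)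
  have hgen : closure F = P0 := by
    refine eq_of_le_of_card_ge ((closure_le _).mpr hFP) ?_
    by_contra hlt
    push Not at hlt
    obtain ⟨j, hj⟩ := IsPGroup.iff_card.mp (P.isPGroup'.to_le ((closure_le _).mpr hFP))
    have h1 : F.ncard ≤ Nat.card (closure F) := by
      rw [← Nat.card_coe_set_eq]
      exact Nat.card_le_card_of_injective (fun z : F => (⟨z, subset_closure z.2⟩ : closure F))
        (fun a b e => Subtype.ext (congrArg (fun w : closure F => (w : G)) e))
    change Nat.card P0 = p ^ e at he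
    rw [he, hj] at hlt
    have h2 : p * p ^ j ≤ p ^ e := by
      rw [← pow_succ']
      exact Nat.pow_le_pow_right hp.pos ((Nat.pow_lt_pow_iff_right hp.one_lt).mp hlt)
    rw [← hj, ← he] at h2
    have h3 : p * F.ncard ≤ Nat.card P0 := (Nat.mul_le_mul_left p h1).trans h2
    rw [Nat.mul_sub] at hsmall
    have h4 : 3 * Nat.card P0 ≤ p * Nat.card P0 := Nat.mul_le_mul_right _ hp3
    omega
  have hder : ∀ v ∈ F, ⁅P0, P0⁆ ≤ centralizer ({v} : Set G) := by
    intro v hv
    set K := (centralizer ({v} : Set G)).subgroupOf P0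
    have hK : K.index ∣ p := hFb v hv
    have hKle : _root_.commutator P0 ≤ K := by
      rcases (Nat.dvd_prime hp).mp hK with h1 | h1
      · rw [index_eq_one.mp h1]; exact le_top
      · haveI : Group.IsNilpotent P0 := P.isPGroup'.isNilpotent
        haveI : K.Normal := normal_of_index_eq_minFac_card (by
          rw [h1, show Nat.card P0 = p ^ e from he, hp.pow_minFac he0])
        haveI : IsCyclic (P0 ⧸ K) := isCyclic_of_prime_card (p := p) h1
        exact Normal.quotient_commutative_iff_commutator_le.mp inferInstance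
    rw [← map_subtype_commutator]
    exact (map_mono hKle).trans (map_comap_le _ _)
  have hcl2 : ∀ c ∈ ⁅P0, P0⁆, ∀ h ∈ P0, Commute h c := by
    intro c hc h hh
    rw [← hgen] at hh
    induction hh using closure_induction with
    | mem v hv => exact (mem_Cx.mp (hder v hv hc) : Commute c v).symm
    | one => exact Commute.one_left c
    | mul a b _ _ e1 e2 => exact e1.mul_left e2
    | inv a _ e1 => exact e1.inv_left
  have hlcs : P0.lowerCentralSeries (p - 1) = ⊥ := by
    refine le_bot_iff.mp ((Subgroup.lowerCentralSeries_antitone P0 (show 2 ≤ p - 1 by omega)).trans ?_)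
    rw [Subgroup.lowerCentralSeries_succ, Subgroup.lowerCentralSeries_succ]
    exact (commutator_eq_bot_iff_le_centralizer.mpr fun c hc =>
      mem_centralizer_iff.mpr fun h hh => (hcl2 c hc h hh).eq).le
  -- `N` acts trivially modulo `P'`
  have htriv : ∀ n ∈ N, ∀ v ∈ P0, ⁅n, v⁆ ∈ ⁅P0, P0⁆ := by
    intro n hn v hv
    set D := ⁅P0, P0⁆
    have hDP : D ≤ P0 := commutator_le_self P0
    have hnorm : ∀ g ∈ N, ∀ d ∈ D, g * d * g⁻¹ ∈ D := by
      intro g hg d hd
      have hmap : P0.map (MulAut.conj g).toMonoidHom = P0 := mem_normalizer_iff_map_conj_eq.1 hg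
      have h1 : D.map (MulAut.conj g).toMonoidHom = D := by
        rw [map_commutator, hmap]
      rw [← h1]
      exact mem_map_of_mem _ hd
    have hmul : ∀ a b : G, a ∈ N → b ∈ N → (∀ w ∈ P0, ⁅a, w⁆ ∈ D) → (∀ w ∈ P0, ⁅b, w⁆ ∈ D) →
        ∀ w ∈ P0, ⁅a * b, w⁆ ∈ D := by
      intro a b ha _ h1 h2 w hw
      rw [show ⁅a * b, w⁆ = a * ⁅b, w⁆ * a⁻¹ * ⁅a, w⁆ by simp only [commutatorElement_def]; group]
      exact mul_mem (hnorm a ha _ (h2 w hw)) (h1 w hw)
    have hpart : piPart {p} n ∈ P0 := by
      obtain ⟨k, hk⟩ := isPi_singleton_iff.mp (isPi_piPart {p} n)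
      exact CfsgLib.PTools69.mem_sylow_of_normalizes P (pow_mem hn _) ⟨k, hk ▸ pow_orderOf_eq_one _⟩
    rw [← piPart_mul {p} n]
    refine hmul _ _ (hPN hpart) (mul_mem (inv_mem (hPN hpart)) hn)
      (fun w hw => commutator_mem_commutator hpart hw) (fun w hw => ?_) v hv
    clear hv v
    by_contra hw'
    set y := piComplPart {p} n
    have hyN : y ∈ N := mul_mem (inv_mem (hPN hpart)) hn
    let Y : Subgroup G :=
      { carrier := {u | u ∈ P0 ∧ ⁅y, u⁆ ∈ D}
        one_mem' := ⟨one_mem _, by simp⟩
        mul_mem' := fun {a b} ha hb => ⟨mul_mem ha.1 hb.1, by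
          rw [show ⁅y, a * b⁆ = ⁅y, a⁆ * (a * ⁅y, b⁆ * a⁻¹) by simp only [commutatorElement_def]; group]
          exact mul_mem ha.2 (hnorm a (hPN ha.1) _ hb.2)⟩
        inv_mem' := fun {a} ha => ⟨inv_mem ha.1, by
          rw [show ⁅y, a⁻¹⁆ = a⁻¹ * ⁅y, a⁆⁻¹ * a⁻¹⁻¹ by simp only [commutatorElement_def]; group]
          exact hnorm _ (hPN (inv_mem ha.1)) _ (inv_mem ha.2)⟩ }
    have hYlt : p * Nat.card Y ≤ Nat.card P0 := by
      have hle : Y ≤ P0 := fun u hu => hu.1
      obtain ⟨j, hj⟩ := IsPGroup.iff_card.mp (P.isPGroup'.to_le hle)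
      have hlt : Nat.card Y < Nat.card P0 := lt_of_le_of_ne (card_le_of_le hle) fun e' =>
        hw' ((eq_of_le_of_card_ge hle e'.ge).ge hw).2
      change Nat.card P0 = p ^ e at he
      rw [hj, he] at hlt ⊢
      rw [← pow_succ']
      exact Nat.pow_le_pow_right hp.pos ((Nat.pow_lt_pow_iff_right hp.one_lt).mp hlt)
    haveI := Fintype.ofFinite G
    let X := Finset.univ.filter (fun u : G => u ∈ P0 ∧ u ∉ Y)
    let XF := X.filter (fun u => u ∈ F)
    have hyP : ∀ u, u ∈ P0 → y * u * y⁻¹ ∈ P0 := fun u hu => (mem_normalizer_iff.mp hyN u).mp hu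
    have hXcard : X.card + Nat.card Y = Nat.card P0 := by
      rw [Nat.card_eq_fintype_card, Nat.card_eq_fintype_card, Fintype.card_subtype,
        Fintype.card_subtype, ← Finset.card_union_of_disjoint]
      · congr 1
        ext u
        simp only [X, Finset.mem_union, Finset.mem_filter, Finset.mem_univ, true_and]
        exact ⟨fun h => h.elim (·.1) (fun h => h.1), fun h => by
          by_cases hu : u ∈ Y
          · exact Or.inr hu
          · exact Or.inl ⟨h, hu⟩⟩
      · exact Finset.disjoint_left.mpr fun u h1 h2 => (Finset.mem_filter.mp h1).2.2 (Finset.mem_filter.mp h2).2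
    have hYstep : ∀ u ∈ P0, y * u * y⁻¹ ∈ Y → u ∈ Y := by
      intro u hu hyu
      have hy1 : ⁅y, u⁆ ∈ D := by
        have h2 := hnorm y⁻¹ (inv_mem hyN) _ hyu.2
        rwa [show y⁻¹ * ⁅y, y * u * y⁻¹⁆ * y⁻¹⁻¹ = ⁅y, u⁆ by
          simp only [commutatorElement_def]; group] at h2
      exact ⟨hu, hy1⟩
    have hkey : 2 * XF.card ≤ X.card := by
      have hsub : XF ∪ XF.image (fun u => y * u * y⁻¹) ⊆ X := by
        refine Finset.union_subset (Finset.filter_subset _ _) fun u hu => ?_
        obtain ⟨u', hu', rfl⟩ := Finset.mem_image.mp hu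
        obtain ⟨-, h1, h2⟩ := Finset.mem_filter.mp (Finset.mem_filter.mp hu').1
        exact Finset.mem_filter.mpr ⟨Finset.mem_univ _, hyP u' h1, fun h => h2 (hYstep u' h1 h)⟩
      have hd : Disjoint XF (XF.image (fun u => y * u * y⁻¹)) := by
        refine Finset.disjoint_left.mpr fun u hu hu2 => ?_
        obtain ⟨u', hu', e'⟩ := Finset.mem_image.mp hu2
        obtain ⟨hu'X, hu'F⟩ := Finset.mem_filter.mp hu'
        obtain ⟨-, h1, h2⟩ := Finset.mem_filter.mp hu'X
        obtain ⟨k, hk, hk'⟩ := hF u' hu'F u (Finset.mem_filter.mp hu).2 y e'.symm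
        refine h2 ⟨h1, ?_⟩
        rw [show ⁅y, u'⁆ = y * u' * y⁻¹ * u'⁻¹ from commutatorElement_def y u', e', hk']
        exact commutator_mem_commutator hk h1
      have := Finset.card_le_card hsub
      rw [Finset.card_union_of_disjoint hd,
        Finset.card_image_of_injective _ (fun a b e' => mul_left_cancel (mul_right_cancel e'))] at this
      omega
    have hout : X.card ≤ XF.card + (Nat.card P0 - F.ncard) := by
      have hPf : (Finset.univ.filter (fun u : G => u ∈ P0)).card = Nat.card P0 := by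
        rw [Nat.card_eq_fintype_card, Fintype.card_subtype]
      rw [← Finset.card_filter_add_card_filter_not (s := X) (fun u => u ∈ F)]
      refine Nat.add_le_add_left ?_ _
      refine (Finset.card_le_card (t := (Finset.univ.filter fun u : G => u ∈ P0) \ F.toFinset)
        fun u hu => ?_).trans ?_
      · obtain ⟨h1, h2⟩ := Finset.mem_filter.mp hu
        exact Finset.mem_sdiff.mpr ⟨Finset.mem_filter.mpr ⟨Finset.mem_univ _, (Finset.mem_filter.mp h1).2.1⟩,
          fun h3 => h2 (Set.mem_toFinset.mp h3)⟩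
      · rw [Finset.card_sdiff_of_subset (show F.toFinset ⊆ Finset.univ.filter (fun u : G => u ∈ P0) from
          fun u hu => Finset.mem_filter.mpr ⟨Finset.mem_univ _, hFP (Set.mem_toFinset.mp hu)⟩), hPf,
          Set.ncard_eq_toFinset_card' F]
    have h5 : p * X.card ≤ 2 * (p * (Nat.card P0 - F.ncard)) := by
      rw [← mul_assoc, mul_comm 2 p, mul_assoc]
      exact Nat.mul_le_mul_left _ (by omega)
    have h6 : p * X.card + p * Nat.card Y = p * Nat.card P0 := by rw [← mul_add, hXcard]
    have h7 : 3 * Nat.card P0 ≤ p * Nat.card P0 := Nat.mul_le_mul_right _ hp3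
    omega
  -- a homomorphism from `N` contradicting Hall--Wielandt
  let PN : Sylow p N := P.subtype hPN
  have hfoc : (PN : Subgroup N).focalSubgroup.map N.subtype ≤ ⁅P0, P0⁆ := by
    rw [focalSubgroup_def, MonoidHom.map_closure, closure_le]
    rintro _ ⟨_, ⟨-, u, hu, g, rfl⟩, rfl⟩
    show N.subtype ⁅u, g⁆ ∈ _
    rw [map_commutatorElement, ← commutatorElement_inv]
    exact inv_mem (htriv g g.2 u hu)
  let A := ↥(PN : Subgroup N) ⧸ (PN : Subgroup N).focalSubgroupOf
  haveI : Nontrivial A := by
    refine QuotientGroup.nontrivial_iff.mpr fun htop => ?_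
    haveI : Group.IsNilpotent P0 := P.isPGroup'.isNilpotent
    have h1 : P0 ≤ ⁅P0, P0⁆ := fun v hv => hfoc (mem_map.mpr ⟨⟨v, hPN hv⟩, by
      have := htop.ge (mem_top (⟨⟨v, hPN hv⟩, hv⟩ : ↥(PN : Subgroup N)))
      exact mem_subgroupOf.mp this, rfl⟩)
    have h2 : ∀ c ∈ P0, ∀ d ∈ P0, Commute c d := fun c hc d hd => hcl2 d (h1 hd) c hc
    exact hab ⟨⟨fun a b => Subtype.ext (h2 a a.2 b b.2)⟩⟩
  open scoped IsMulCommutative in
  have hA : ∃ U : Subgroup A, U ≠ ⊤ ∧ ∀ a : A, a ^ p ∈ U := by
    refine ⟨(powMonoidHom p : A →* A).range, fun htop => ?_, fun a => ⟨a, rfl⟩⟩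
    have hsurj : Function.Surjective (powMonoidHom p : A →* A) := MonoidHom.range_eq_top.mp htop
    have hinj := Finite.injective_iff_surjective.mpr hsurj
    obtain ⟨a, ha⟩ := exists_ne (1 : A)
    have hAp : IsPGroup p A := PN.isPGroup'.to_quotient _
    obtain ⟨b, hb⟩ := exists_prime_orderOf_dvd_card' (G := A) p
      (hAp.card_eq_or_dvd.resolve_left Finite.one_lt_card.ne')
    have : b = 1 := hinj (by
      show b ^ p = (1 : A) ^ p
      rw [one_pow]; exact orderOf_dvd_iff_pow_eq_one.mp hb.dvd)
    rw [this, orderOf_one] at hb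
    exact hp.ne_one hb.symm
  open scoped IsMulCommutative in
  obtain ⟨U, hU, hUp⟩ := hA
  open scoped IsMulCommutative in
  let φ : N →* A ⧸ U := (QuotientGroup.mk' U).comp (PN : Subgroup N).transferFocal
  open scoped IsMulCommutative in
  refine hU ((eq_top_iff' U).mpr fun a => ?_)
  obtain ⟨b, hb⟩ := focalSubgroupOf.pow_index_surjective PN a
  obtain ⟨z, rfl⟩ := QuotientGroup.mk'_surjective _ b
  rw [← hb]
  open scoped IsMulCommutative in
  have h1 := CfsgLib.SolvCrit.HallWielandt.apply_eq_one_of_class_lt P hlcs (A := A ⧸ U)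
    (fun a => by
      obtain ⟨a, rfl⟩ := QuotientGroup.mk'_surjective U a
      rw [← map_pow]
      exact (QuotientGroup.eq_one_iff _).mpr (hUp a)) φ ⊤
    (by rw [← hperf]; exact Abelianization.commutator_subset_ker _) (z : N) (mem_top _) z.2
  rw [MonoidHom.comp_apply, transferFocal_eq_pow] at h1
  exact (QuotientGroup.eq_one_iff _).mp h1

/-- A group with square-free class sizes is solvable. -/
theorem isSolvable_of_squarefree (n : ℕ) : ∀ (G : Type*) [Group G] [Finite G], Nat.card G = n →
    (∀ g : G, Squarefree (cs g)) → Group.IsSolvable G := by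
  induction n using Nat.strongRecOn with
  | ind n ih =>
    intro G _ _ hn hsq
    have hsub : ∀ (K : Subgroup G), K.Normal → K ≠ ⊤ → Group.IsSolvable K := by
      intro K hK hKtop
      have hlt : Nat.card K < n := hn ▸ lt_of_le_of_ne K.card_le_card_group
        (fun e => hKtop (eq_top_of_card_eq K e))
      refine ih _ hlt K rfl fun g => (hsq (g : G)).squarefree_of_dvd ?_
      have h1 : (centralizer ({(g : G)} : Set G)).subgroupOf K = centralizer ({g} : Set K) := by
        ext h
        rw [mem_subgroupOf, mem_Cx, mem_Cx, Subtype.ext_iff]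
        rfl
      show (centralizer ({g} : Set K)).index ∣ _
      rw [← h1]
      exact relIndex_dvd_index_normal K _
    by_cases hperf : _root_.commutator G = ⊤
    · by_cases hn1 : n = 1
      · haveI : Subsingleton G := (Nat.card_eq_one_iff_unique.mp (hn.trans hn1)).1
        infer_instance
      exfalso
      have hnp : n.minFac.Prime := Nat.minFac_prime hn1
      haveI := Fact.mk hnp
      have hdvd : n.minFac ∣ Nat.card G := hn ▸ Nat.minFac_dvd n
      have hcls : ∀ g : G, ¬ n.minFac ^ 2 ∣ cs g := fun g hd =>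
        hnp.not_isUnit (hsq g n.minFac (sq n.minFac ▸ hd))
      by_cases h2 : n.minFac = 2
      · obtain ⟨P, N, hN, hc⟩ := hasNormalPComplement_two (G := G)
          (fun g => by have := hcls g; rwa [h2] at this) (h2 ▸ hdvd)
        haveI := Fact.mk Nat.prime_two
        haveI := hN
        have hle : N = ⊤ := by
          have hq : IsPGroup 2 (G ⧸ N) := by
            obtain ⟨j, hj⟩ := IsPGroup.iff_card.mp P.isPGroup'
            refine IsPGroup.of_card (n := j) ?_
            rw [← index_eq_card, Subgroup.IsComplement'.index_eq_card (hc.symm), hj]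
          haveI := hq.isNilpotent
          by_contra hne
          haveI : Nontrivial (G ⧸ N) := QuotientGroup.nontrivial_iff.mpr hne
          refine Group.IsSolvable.commutator_lt_top_of_nontrivial (G := G ⧸ N) |>.ne ?_
          rw [_root_.commutator_def, ← map_top_of_surjective _ (QuotientGroup.mk'_surjective N),
            ← map_commutator, ← _root_.commutator_def, hperf]
        have h3 := Subgroup.IsComplement'.index_eq_card (hc.symm)
        rw [hle, index_top] at h3
        have : (P : Subgroup G) = ⊥ := card_eq_one.mp h3.symm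
        exact P.not_dvd_index (by rw [this, index_bot]; exact h2 ▸ hdvd)
      · exact no_perfect_of_odd h2 hdvd
          (fun r hr hrd => Nat.minFac_le_of_dvd hr.two_le (hn ▸ hrd)) hcls hperf
    · haveI := hsub _ inferInstance hperf
      exact Group.isSolvable_of_ker_le_range (_root_.commutator G).subtype
        (Abelianization.of (G := G)) (by rw [Abelianization.ker_of, range_subtype])

end CfsgLib.SquarefreeClasses69
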