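/- Square-free class sizes: common lines, supersolvability and the derived group. -/
import Cfsg.Agent.SquarefreeClasses69.Main
import Cfsg.Agent.LocalEven50.Supersolvable

set_option autoImplicit false

namespace CfsgLib.SquarefreeClasses69

open Subgroup CfsgLib.ClassCoprime69
open scoped commutatorElement

universe u

variable {G : Type*} [Group G]

/-- `a ↦ ⁅g, a⁆` on an abelian normal subgroup. -/
def commHom (A : Subgroup G) [A.Normal] [IsMulCommutative A] (g : G) : A →* G where
  toFun a := ⁅g, (a : G)⁆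
  map_one' := by simp
  map_mul' a b := by
    have hb : ⁅g, (b : G)⁆ ∈ A := by
      rw [commutatorElement_def]
      exact mul_mem ((inferInstance : A.Normal).conj_mem _ b.2 g) (inv_mem b.2)
    have h : (a : G) * ⁅g, (b : G)⁆ = ⁅g, (b : G)⁆ * a :=
      congrArg Subtype.val (mul_comm' a ⟨_, hb⟩)
    calc ⁅g, ((a * b : A) : G)⁆ = ⁅g, (a : G)⁆ * ((a : G) * ⁅g, (b : G)⁆ * (a : G)⁻¹) := by
          simp only [commutatorElement_def, Subgroup.coe_mul]; group
      _ = ⁅g, (a : G)⁆ * ⁅g, (b : G)⁆ := by rw [h, mul_inv_cancel_right]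

variable {A : Subgroup G} [A.Normal] [IsMulCommutative A]

theorem commHom_range_le (g : G) : (commHom A g).range ≤ A := by
  rintro _ ⟨a, rfl⟩
  show ⁅g, (a : G)⁆ ∈ A
  rw [commutatorElement_def]
  exact mul_mem ((inferInstance : A.Normal).conj_mem _ a.2 g) (inv_mem a.2)

theorem mem_commHom_ker {g : G} {a : A} : a ∈ (commHom A g).ker ↔ Commute g (a : G) := by
  rw [MonoidHom.mem_ker]
  exact commutatorElement_eq_one_iff_commute

theorem ker_commHom (g : G) : (commHom A g).ker = (centralizer ({g} : Set G)).subgroupOf A := by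
  ext a
  rw [mem_commHom_ker, mem_subgroupOf, mem_Cx]
  exact eq_comm

theorem card_range_dvd [Finite G] (g : G) : Nat.card (commHom A g).range ∣ cs g := by
  rw [← index_ker, ker_commHom]
  exact relIndex_dvd_index_normal A _

theorem conj_mem_range {g k : G} (hk : k * g * k⁻¹ = g) {l : G} (hl : l ∈ (commHom A g).range) :
    k * l * k⁻¹ ∈ (commHom A g).range := by
  obtain ⟨a, rfl⟩ := hl
  refine ⟨⟨k * a * k⁻¹, (inferInstance : A.Normal).conj_mem _ a.2 k⟩, ?_⟩
  show ⁅g, k * (a : G) * k⁻¹⁆ = k * ⁅g, (a : G)⁆ * k⁻¹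
  conv_lhs => rw [← hk]
  simp only [commutatorElement_def]; group

variable [Finite G] {p : ℕ} [Fact p.Prime]

theorem card_range_le_prime (hA : IsPGroup p A) (hsq : ∀ g : G, Squarefree (cs g)) (g : G) :
    Nat.card (commHom A g).range ∣ p := by
  obtain ⟨j, hj⟩ := IsPGroup.iff_card.mp (hA.to_le (commHom_range_le g))
  have h1 : p ^ j ∣ cs g := hj ▸ card_range_dvd g
  rw [hj]
  by_cases hj2 : j ≤ 1
  · exact pow_dvd_pow p hj2 |>.trans (pow_one p).dvd
  exfalso
  have h2 : p * p ∣ cs g := by
    refine dvd_trans ?_ h1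
    rw [← sq]; exact pow_dvd_pow p (by omega)
  exact (Fact.out : p.Prime).not_isUnit (hsq g p h2)

theorem eq_of_mem_of_ne_one {L M : Subgroup G} (hL : Nat.card L ∣ p) (hM : Nat.card M ∣ p) {x : G}
    (hx : x ≠ 1) (hxL : x ∈ L) (hxM : x ∈ M) : L = M := by
  have hp : p.Prime := Fact.out
  have key : ∀ K : Subgroup G, Nat.card K ∣ p → x ∈ K → zpowers x = K := by
    intro K hK hxK
    refine eq_of_le_of_card_ge (zpowers_le.mpr hxK) ?_
    rcases (Nat.dvd_prime hp).mp hK with h | h
    · rw [h]; exact Nat.card_pos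
    · rw [h, Nat.card_zpowers]
      have h1 := Subgroup.orderOf_dvd_natCard K hxK
      rw [h] at h1
      rcases (Nat.dvd_prime hp).mp h1 with h2 | h2
      · exact absurd (orderOf_eq_one_iff.mp h2) hx
      · rw [h2]
  rw [← key L hL hxL, key M hM hxM]

/-- Two elements with different fixed hyperplanes have the same line. -/
theorem range_eq_of_ker_ne (hsize : ∀ g : G, Nat.card (commHom A g).range ∣ p) {g h : G}
    (hg : (commHom A g).range ≠ ⊥) (hh : (commHom A h).range ≠ ⊥)
    (hne : (commHom A g).ker ≠ (commHom A h).ker) :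
    (commHom A g).range = (commHom A h).range := by
  have hp : p.Prime := Fact.out
  have hcard : ∀ k : G, (commHom A k).range ≠ ⊥ → (commHom A k).ker.index = p := by
    intro k hk
    rw [index_ker]
    exact ((Nat.dvd_prime hp).mp (hsize k)).resolve_left fun e => hk (eq_bot_of_card_eq _ e)
  have hnle : ∀ k l : G, (commHom A k).range ≠ ⊥ → (commHom A l).range ≠ ⊥ →
      (commHom A k).ker ≠ (commHom A l).ker → ∃ a : A, a ∈ (commHom A k).ker ∧ a ∉ (commHom A l).ker := by
    intro k l hk hl hkl
    by_contra hall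
    push Not at hall
    refine hkl (le_antisymm hall ?_)
    have h1 := relIndex_mul_index (show (commHom A k).ker ≤ (commHom A l).ker from hall)
    rw [hcard k hk, hcard l hl] at h1
    exact relIndex_eq_one.mp (Nat.eq_of_mul_eq_mul_right hp.pos (h1.trans (one_mul p).symm))
  obtain ⟨a, hah, hag⟩ := hnle h g hh hg hne.symm
  obtain ⟨b, hbg, hbh⟩ := hnle g h hg hh hne
  have key : ∀ c : A, ⁅g * h, (c : G)⁆ = g * ⁅h, (c : G)⁆ * g⁻¹ * ⁅g, (c : G)⁆ := fun c => by
    simp only [commutatorElement_def]; group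
  have e1 : ⁅g * h, (a : G)⁆ = ⁅g, (a : G)⁆ := by
    rw [key, show ⁅h, (a : G)⁆ = 1 from hah, mul_one, mul_inv_cancel, one_mul]
  have e2 : ⁅g * h, (b : G)⁆ = g * ⁅h, (b : G)⁆ * g⁻¹ := by
    rw [key, show ⁅g, (b : G)⁆ = 1 from hbg, mul_one]
  have hLg : (commHom A (g * h)).range = (commHom A g).range :=
    eq_of_mem_of_ne_one (hsize _) (hsize _) (x := ⁅g, (a : G)⁆) hag ⟨a, e1⟩ ⟨a, rfl⟩
  have hb : g * ⁅h, (b : G)⁆ * g⁻¹ ∈ (commHom A g).range := hLg ▸ ⟨b, e2⟩
  have hb' : ⁅h, (b : G)⁆ ∈ (commHom A g).range := by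
    have := conj_mem_range (k := g⁻¹) (g := g) (by group) hb
    rwa [show g⁻¹ * (g * ⁅h, (b : G)⁆ * g⁻¹) * g⁻¹⁻¹ = ⁅h, (b : G)⁆ by group] at this
  exact eq_of_mem_of_ne_one (hsize _) (hsize _) hbh hb' ⟨b, rfl⟩

/-- An abelian normal minimal subgroup has prime order. -/
theorem card_dvd_of_minimal (hsize : ∀ g : G, Nat.card (commHom A g).range ∣ p)
    (hAcard : Nat.card A = p ∨ ∃ g : G, (commHom A g).range ≠ ⊥)
    (hmin : ∀ M : Subgroup G, M.Normal → M ≤ A → M = ⊥ ∨ M = A) : Nat.card A ∣ p := by
  rcases hAcard with h | ⟨g₀, hg₀⟩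
  · rw [h]
  have hconjL : ∀ (k g : G), ∀ l ∈ (commHom A g).range, k * l * k⁻¹ ∈ (commHom A (k * g * k⁻¹)).range := by
    rintro k g _ ⟨a, rfl⟩
    refine ⟨⟨k * a * k⁻¹, (inferInstance : A.Normal).conj_mem _ a.2 k⟩, ?_⟩
    show ⁅k * g * k⁻¹, k * (a : G) * k⁻¹⁆ = k * ⁅g, (a : G)⁆ * k⁻¹
    simp only [commutatorElement_def]; group
  by_cases hline : ∀ g, (commHom A g).range ≠ ⊥ → (commHom A g).range = (commHom A g₀).range
  · haveI : (commHom A g₀).range.Normal := by
      refine ⟨fun l hl k => ?_⟩
      by_cases hkl : l = 1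
      · subst hkl; simp [one_mem]
      rw [← hline (k * g₀ * k⁻¹) (fun e => hkl (by
        have := hconjL k g₀ l hl
        rw [e, mem_bot] at this
        exact conj_eq_one_iff.mp this))]
      exact hconjL k g₀ l hl
    rcases hmin _ inferInstance (commHom_range_le g₀) with h1 | h1
    · exact absurd h1 hg₀
    · rw [← h1]; exact hsize g₀
  · push Not at hline
    obtain ⟨g₁, hg₁, hne⟩ := hline
    have hk01 : (commHom A g₁).ker = (commHom A g₀).ker := by
      by_contra h1; exact hne (range_eq_of_ker_ne hsize hg₁ hg₀ h1)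
    have hker : ∀ g : G, (commHom A g).range ≠ ⊥ → (commHom A g).ker = (commHom A g₀).ker := by
      intro g hg
      by_contra h1
      have h2 := range_eq_of_ker_ne hsize hg hg₀ h1
      have h3 := range_eq_of_ker_ne hsize hg hg₁ (fun e => h1 (e.trans hk01))
      exact hne (h3.symm.trans h2)
    set K := ((commHom A g₀).ker).map A.subtype
    have hKC : ∀ (g : G) (a : A), a ∈ (commHom A g₀).ker → Commute g (a : G) := by
      intro g a ha
      by_cases hg : (commHom A g).range = ⊥
      · exact mem_commHom_ker.mp (by rw [MonoidHom.range_eq_bot_iff.mp hg]; rfl)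
      · exact mem_commHom_ker.mp ((hker g hg).symm ▸ ha)
    haveI : K.Normal := by
      refine ⟨fun l hl k => ?_⟩
      obtain ⟨a, ha, rfl⟩ := mem_map.mp hl
      show k * (a : G) * k⁻¹ ∈ K
      rw [(hKC k a ha).eq, mul_inv_cancel_right]
      exact mem_map_of_mem _ ha
    rcases hmin K inferInstance (map_subtype_le _) with h1 | h1
    · rw [Subgroup.map_eq_bot_iff_of_injective _ A.subtype_injective] at h1
      have e := (commHom A g₀).ker.card_mul_index
      rw [index_ker] at e
      rw [h1, card_bot, one_mul] at e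
      rw [← e]; exact hsize g₀
    · exfalso
      refine hg₀ (eq_bot_iff.mpr ?_)
      rintro _ ⟨a, rfl⟩
      have ha : a ∈ (commHom A g₀).ker := by
        have : (a : G) ∈ K := h1.symm ▸ a.2
        exact (mem_map_iff_mem A.subtype_injective).mp this
      exact mem_bot.mpr ha

theorem cs_quotient_dvd {G : Type*} [Group G] [Finite G] (N : Subgroup G) [N.Normal] (g : G) :
    cs (g : G ⧸ N) ∣ cs g := by
  refine dvd_trans (index_dvd_of_le ?_) (index_map_dvd (centralizer ({g} : Set G))
    (QuotientGroup.mk'_surjective N))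
  rintro _ ⟨h, hh, rfl⟩
  exact mem_Cx.mpr (by rw [QuotientGroup.mk'_apply, ← QuotientGroup.mk_mul, mem_Cx.mp hh,
    QuotientGroup.mk_mul])

theorem squarefree_quotient {G : Type*} [Group G] [Finite G] (hsq : ∀ g : G, Squarefree (cs g))
    (N : Subgroup G) [N.Normal] : ∀ q : G ⧸ N, Squarefree (cs q) := by
  intro q
  obtain ⟨g, rfl⟩ := QuotientGroup.mk_surjective q
  exact (hsq g).squarefree_of_dvd (cs_quotient_dvd N g)

/-- Square-free class sizes imply supersolvability. -/
theorem isSupersolvable_of_squarefree (n : ℕ) : ∀ (G : Type u) [Group G] [Finite G], Nat.card G = n →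
    (∀ g : G, Squarefree (cs g)) → Cfsg.IsSupersolvable G := by
  induction n using Nat.strongRecOn with
  | ind n ih =>
    intro G _ _ hn hsq
    rcases subsingleton_or_nontrivial G with hs | hnt
    · exact CfsgLib.LocalEven50.isSupersolvable_of_subsingleton
    haveI := isSolvable_of_squarefree _ G rfl hsq
    -- an abelian normal subgroup
    classical
    have hex : ∃ i, derivedSeries G i = ⊥ := (inferInstance : Group.IsSolvable G).solvable
    obtain ⟨i, hi⟩ : ∃ i, Nat.find hex = i + 1 := by
      refine Nat.exists_eq_succ_of_ne_zero fun h0 => ?_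
      have := Nat.find_spec hex
      rw [h0, derivedSeries_zero] at this
      exact top_ne_bot this
    set D := derivedSeries G i
    have hDne : D ≠ ⊥ := Nat.find_min hex (by omega)
    have hDab : ⁅D, D⁆ = ⊥ := by
      have := Nat.find_spec hex
      rwa [hi, derivedSeries_succ] at this
    obtain ⟨A, ⟨hAn, hAne, hAD⟩, hAmin⟩ := Set.Finite.exists_minimal (s := {A : Subgroup G |
      A.Normal ∧ A ≠ ⊥ ∧ A ≤ D}) (Set.toFinite _) ⟨D, derivedSeries_normal G i, hDne, le_rfl⟩
    haveI := hAn
    haveI hAc : IsMulCommutative A := ⟨⟨fun a b => Subtype.ext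
      (commutatorElement_eq_one_iff_mul_comm.mp
        (mem_bot.mp (hDab ▸ commutator_mem_commutator (hAD a.2) (hAD b.2))))⟩⟩
    have hmin : ∀ M : Subgroup G, M.Normal → M ≤ A → M = ⊥ ∨ M = A := fun M hM hMA =>
      or_iff_not_imp_left.mpr fun hne => le_antisymm hMA (hAmin ⟨hM, hne, hMA.trans hAD⟩ hMA)
    obtain ⟨p, hp, hpA⟩ := Nat.exists_prime_and_dvd (fun e => hAne (eq_bot_of_card_eq A e))
    haveI := Fact.mk hp
    let E : Subgroup G :=
      { carrier := {a | a ∈ A ∧ a ^ p = 1}
        one_mem' := ⟨one_mem A, one_pow p⟩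
        mul_mem' := fun {a b} ha hb => ⟨mul_mem ha.1 hb.1, by
          rw [(congrArg Subtype.val (mul_comm' (⟨a, ha.1⟩ : A) ⟨b, hb.1⟩) : a * b = b * a) |>
            (fun h => (Commute.mul_pow (show Commute a b from h) p)), ha.2, hb.2, one_mul]⟩
        inv_mem' := fun {a} ha => ⟨inv_mem ha.1, by rw [inv_pow, ha.2, inv_one]⟩ }
    haveI : E.Normal := ⟨fun a ha g => ⟨hAn.conj_mem a ha.1 g, by
      rw [conj_pow, ha.2, mul_one, mul_inv_cancel]⟩⟩
    have hEA : E = A := by
      refine (hmin E inferInstance (fun a ha => ha.1)).resolve_left fun hE => ?_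
      obtain ⟨a, ha⟩ := exists_prime_orderOf_dvd_card' (G := A) p hpA
      have h1 : (a : G) ∈ E := ⟨a.2, by
        rw [← ha, ← Subgroup.coe_pow, pow_orderOf_eq_one, Subgroup.coe_one]⟩
      rw [hE, mem_bot] at h1
      rw [show a = 1 from Subtype.ext h1, orderOf_one] at ha
      exact hp.ne_one ha.symm
    have hAp : IsPGroup p A := fun a => ⟨1, Subtype.ext (by
      rw [pow_one]; exact (hEA.ge a.2).2)⟩
    have hsize := card_range_le_prime hAp hsq
    have hcase : Nat.card A = p ∨ ∃ g : G, (commHom A g).range ≠ ⊥ := by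
      by_contra hno
      push Not at hno
      obtain ⟨a, ha⟩ := exists_prime_orderOf_dvd_card' (G := A) p hpA
      haveI : (zpowers (a : G)).Normal := by
        refine ⟨fun l hl k => ?_⟩
        obtain ⟨j, rfl⟩ := mem_zpowers_iff.mp hl
        have h1 : Commute k (a : G) :=
          mem_commHom_ker.mp (by rw [MonoidHom.range_eq_bot_iff.mp (hno.2 k)]; rfl)
        rw [(h1.zpow_right j).eq, mul_inv_cancel_right]
        exact zpow_mem (mem_zpowers _) j
      rcases hmin _ inferInstance (zpowers_le.mpr a.2) with h1 | h1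
      · rw [zpowers_eq_bot] at h1
        rw [show a = 1 from Subtype.ext h1, orderOf_one] at ha
        exact hp.ne_one ha.symm
      · refine hno.1 ?_
        rw [← h1, Nat.card_zpowers, Subgroup.orderOf_coe, ha]
    have hAcard := card_dvd_of_minimal hsize hcase hmin
    haveI : IsCyclic A := isCyclic_of_prime_card (p := p) (((Nat.dvd_prime hp).mp hAcard).resolve_left
      fun e => hAne (eq_bot_of_card_eq A e))
    obtain ⟨⟨g, hg⟩, hgen⟩ := (inferInstance : IsCyclic A).exists_generator
    refine CfsgLib.LocalEven50.isSupersolvable_of_cyclic_normal A (g := g) ?_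
      (ih _ ?_ (G ⧸ A) rfl (squarefree_quotient hsq A))
    · refine le_antisymm (fun a ha => ?_) (zpowers_le.mpr hg)
      obtain ⟨j, hj⟩ := mem_zpowers_iff.mp (hgen ⟨a, ha⟩)
      exact mem_zpowers_iff.mpr ⟨j, by simpa using congrArg Subtype.val hj⟩
    · rw [← hn, A.card_eq_card_quotient_mul_card_subgroup]
      exact lt_mul_of_one_lt_right Nat.card_pos (Finite.one_lt_card_iff_nontrivial.mpr
        ((nontrivial_iff_ne_bot A).mpr hAne))

/-- Knoche: breadth one forces a derived group of prime order. -/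
theorem card_commutator_dvd {P : Type*} [Group P] [Finite P] (hP : IsPGroup p P)
    (hb : ∀ x : P, cs x ∣ p) : Nat.card (_root_.commutator P) ∣ p := by
  have hp : p.Prime := Fact.out
  haveI := hP.isNilpotent
  have hn : ∀ x : P, _root_.commutator P ≤ centralizer ({x} : Set P) := by
    intro x
    rcases (Nat.dvd_prime hp).mp (hb x) with h1 | h1
    · rw [index_eq_one.mp h1]; exact le_top
    · haveI : (centralizer ({x} : Set P)).Normal := by
        obtain ⟨j, hj⟩ := IsPGroup.iff_card.mp hP
        have hj0 : j ≠ 0 := fun e => by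
          rw [e, pow_zero] at hj
          have := index_dvd_card (centralizer ({x} : Set P))
          rw [hj, show (centralizer ({x} : Set P)).index = p from h1, Nat.dvd_one] at this
          exact hp.ne_one this
        exact normal_of_index_eq_minFac_card (by rw [hj, hp.pow_minFac hj0]; exact h1)
      haveI : IsCyclic (P ⧸ centralizer ({x} : Set P)) := isCyclic_of_prime_card (p := p) h1
      exact Normal.quotient_commutative_iff_commutator_le.mp inferInstance
  have hcen : ∀ a b : P, ⁅a, b⁆ ∈ center P := fun a b => mem_center_iff.mpr fun w =>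
    ((mem_Cx.mp (hn w (commutator_mem_commutator (mem_top a) (mem_top b)))).symm)
  let f : P → P →* P := fun x =>
    { toFun := fun a => ⁅x, a⁆
      map_one' := by simp
      map_mul' := fun a b => by
        calc ⁅x, a * b⁆ = ⁅x, a⁆ * (a * ⁅x, b⁆ * a⁻¹) := by simp only [commutatorElement_def]; group
          _ = _ := by rw [(mem_center_iff.mp (hcen x b) a), mul_inv_cancel_right] }
  have hsize : ∀ x, Nat.card (f x).range ∣ p := by
    intro x
    rw [← index_ker]
    have : (f x).ker = centralizer ({x} : Set P) := by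
      ext a
      rw [MonoidHom.mem_ker, mem_Cx]
      exact (commutatorElement_eq_one_iff_mul_comm).trans eq_comm
    rw [this]; exact hb x
  by_cases hall : ∀ x a : P, ⁅x, a⁆ = 1
  · have : _root_.commutator P = ⊥ := by
      rw [_root_.commutator_def, eq_bot_iff, Subgroup.commutator_le]
      exact fun a _ b _ => mem_bot.mpr (hall a b)
    rw [this, card_bot]; exact one_dvd _
  push Not at hall
  obtain ⟨x, a, hxa⟩ := hall
  have hle : _root_.commutator P ≤ (f x).range := by
    rw [_root_.commutator_def, Subgroup.commutator_le]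
    rintro y - b -
    by_cases hyb : ⁅y, b⁆ = 1
    · rw [hyb]; exact one_mem _
    have key : ∀ (s w : P), ⁅x, w⁆ ≠ 1 → ⁅s, w⁆ ≠ 1 → (f s).range = (f x).range := by
      intro s w h1 h2
      have e1 : (f w).range = (f x).range := eq_of_mem_of_ne_one (hsize w) (hsize x) h1
        (by rw [← commutatorElement_inv]; exact inv_mem ⟨x, rfl⟩) ⟨w, rfl⟩
      have e2 : (f w).range = (f s).range := eq_of_mem_of_ne_one (hsize w) (hsize s) h2
        (by rw [← commutatorElement_inv]; exact inv_mem ⟨s, rfl⟩) ⟨w, rfl⟩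
      exact e2.symm.trans e1
    have : (f y).range = (f x).range := by
      by_cases h1 : ⁅x, b⁆ = 1
      · by_cases h2 : ⁅y, a⁆ = 1
        · refine key y (a * b) ?_ ?_
          · show f x (a * b) ≠ 1
            rw [map_mul]; show ⁅x, a⁆ * ⁅x, b⁆ ≠ 1; rwa [h1, mul_one]
          · show f y (a * b) ≠ 1
            rw [map_mul]; show ⁅y, a⁆ * ⁅y, b⁆ ≠ 1; rwa [h2, one_mul]
        · exact key y a hxa h2
      · exact key y b h1 hyb
    exact this ▸ ⟨b, rfl⟩
  exact (card_dvd_of_le hle).trans (hsize x)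

end CfsgLib.SquarefreeClasses69
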