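/- Square-free class sizes: the derived group has square-free order. -/
import Cfsg.Agent.SquarefreeClasses69.Lines
import Cfsg.Agent.ClassCoprime69.Core

set_option autoImplicit false

namespace CfsgLib.SquarefreeClasses69

open Subgroup CfsgLib.ClassCoprime69 CfsgLib.PiClasses69
open scoped commutatorElement

variable {G : Type*} [Group G] [Finite G] {p : ℕ} [Fact p.Prime]

theorem commutator_le_Cx_of_breadth {P : Type*} [Group P] [Finite P] (hP : IsPGroup p P) {x : P}
    (hb : cs x ∣ p) : _root_.commutator P ≤ centralizer ({x} : Set P) := by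
  have hp : p.Prime := Fact.out
  haveI := hP.isNilpotent
  rcases (Nat.dvd_prime hp).mp hb with h1 | h1
  · rw [index_eq_one.mp h1]; exact le_top
  · haveI : (centralizer ({x} : Set P)).Normal := by
      obtain ⟨j, hj⟩ := IsPGroup.iff_card.mp hP
      have hj0 : j ≠ 0 := fun e => by
        rw [e, pow_zero] at hj
        have := index_dvd_card (centralizer ({x} : Set P))
        rw [hj, show (centralizer ({x} : Set P)).index = p from h1, Nat.dvd_one] at this
        exact hp.ne_one this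
      exact normal_of_index_eq_minFac_card (by rw [hj, hp.pow_minFac hj0]; exact h1)
    haveI : IsCyclic (P ⧸ centralizer ({x} : Set P)) := isCyclic_of_prime_card (p := p) h1
    exact Normal.quotient_commutative_iff_commutator_le.mp inferInstance

/-- If the derived group is a `p`-group its order divides `p`. -/
theorem card_commutator_dvd_of_isPGroup (hsq : ∀ g : G, Squarefree (cs g))
    (hG' : IsPGroup p (_root_.commutator G)) : Nat.card (_root_.commutator G) ∣ p := by
  have hp : p.Prime := Fact.out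
  obtain ⟨S, hS⟩ := hG'.exists_le_sylow
  set P : Subgroup G := (S : Subgroup G) with hPdef
  haveI : P.Normal := ⟨fun a ha g => by
    have h1 : ⁅g, a⁆ ∈ P := hS (commutator_mem_commutator (mem_top g) (mem_top a))
    have := mul_mem h1 ha
    rwa [commutatorElement_def, show g * a * g⁻¹ * a⁻¹ * a = g * a * g⁻¹ by group] at this⟩
  obtain ⟨H, hH⟩ := exists_right_complement'_of_coprime (N := P) S.card_coprime_index
  have hdec : ∀ g : G, ∃ a ∈ P, ∃ k ∈ H, g = a * k := fun g => by
    obtain ⟨⟨a, k⟩, e⟩ := hH.2 g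
    exact ⟨a, a.2, k, k.2, e.symm⟩
  have hHc : ∀ h ∈ H, ∀ k ∈ H, Commute h k := fun h hh k hk => by
    refine commutatorElement_eq_one_iff_commute.mp (mem_bot.mp (hH.disjoint.le_bot (mem_inf.mpr
      ⟨hS (commutator_mem_commutator (mem_top h) (mem_top k)), ?_⟩)))
    rw [commutatorElement_def]
    exact mul_mem (mul_mem (mul_mem hh hk) (inv_mem hh)) (inv_mem hk)
  have hrel : ∀ g : G, (centralizer ({g} : Set G)).relIndex P ∣ p := by
    intro g
    obtain ⟨j, hj⟩ := IsPGroup.iff_card.mp S.isPGroup'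
    obtain ⟨i, -, hi⟩ := (Nat.dvd_prime_pow hp).mp
      ((relIndex_dvd_card (centralizer ({g} : Set G)) P).trans hj.dvd)
    rw [hi]
    have h1 : p ^ i ∣ cs g := hi ▸ relIndex_dvd_index_normal P _
    by_cases hi2 : i ≤ 1
    · exact (pow_dvd_pow p hi2).trans (pow_one p).dvd
    exfalso
    refine hp.not_isUnit (hsq g p (dvd_trans ?_ h1))
    rw [← sq]; exact pow_dvd_pow p (by omega)
  have hbP : ∀ x : P, cs x ∣ p := fun x => by
    have : centralizer ({x} : Set P) = (centralizer ({(x : G)} : Set G)).subgroupOf P := by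
      ext y
      rw [mem_subgroupOf, mem_Cx, mem_Cx, Subtype.ext_iff]
      rfl
    rw [cs, this]; exact hrel x
  have hcenP : ∀ a ∈ P, ∀ b ∈ P, ∀ c ∈ P, Commute c ⁅a, b⁆ := fun a ha b hb c hc => by
    have h1 := commutator_le_Cx_of_breadth S.isPGroup' (hbP ⟨c, hc⟩)
      (commutator_mem_commutator (mem_top (⟨a, ha⟩ : P)) (mem_top (⟨b, hb⟩ : P)))
    exact (congrArg Subtype.val (mem_Cx.mp h1)).symm
  by_cases hall : ∀ h ∈ H, ∀ a ∈ P, Commute h a
  · have hle : _root_.commutator G ≤ (_root_.commutator P).map P.subtype := by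
      rw [_root_.commutator_def, Subgroup.commutator_le]
      rintro g - g' -
      obtain ⟨a, ha, k, hk, rfl⟩ := hdec g
      obtain ⟨b, hb, l, hl, rfl⟩ := hdec g'
      refine mem_map.mpr ⟨⁅(⟨a, ha⟩ : P), ⟨b, hb⟩⁆, commutator_mem_commutator (mem_top _) (mem_top _), ?_⟩
      rw [map_commutatorElement]
      show ⁅a, b⁆ = ⁅a * k, b * l⁆
      symm
      simp only [commutatorElement_def]
      calc a * k * (b * l) * (a * k)⁻¹ * (b * l)⁻¹
          = a * (k * b) * l * k⁻¹ * a⁻¹ * l⁻¹ * b⁻¹ := by group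
        _ = a * b * (k * l) * k⁻¹ * a⁻¹ * l⁻¹ * b⁻¹ := by rw [(hall k hk b hb).eq]; group
        _ = a * b * (l * a⁻¹) * l⁻¹ * b⁻¹ := by rw [(hHc k hk l hl).eq]; group
        _ = a * b * a⁻¹ * b⁻¹ := by rw [(hall l hl _ (inv_mem ha)).eq]; group
    refine (card_dvd_of_le hle).trans ?_
    rw [card_map_of_injective P.subtype_injective]
    exact card_commutator_dvd S.isPGroup' hbP
  push Not at hall
  obtain ⟨h, hhH, a₀, ha₀, hha⟩ := hall
  have hhπ : IsPiCompl {p} h := by
    rw [isPiCompl_singleton_iff]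
    intro hd
    obtain ⟨j, hj⟩ := IsPGroup.iff_card.mp S.isPGroup'
    refine S.not_dvd_index (hd.trans ((Subgroup.orderOf_dvd_natCard H hhH).trans ?_))
    rw [Subgroup.IsComplement'.index_eq_card hH.symm]
  set C := P ⊓ centralizer ({h} : Set G)
  have hCp : (centralizer ({h} : Set G)).relIndex P = p := by
    refine ((Nat.dvd_prime hp).mp (hrel h)).resolve_left fun e => hha ?_
    exact (mem_Cx.mp (relIndex_eq_one.mp e ha₀) : Commute a₀ h).symm
  -- a subgroup containing `C` and an element outside contains `P`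
  have hmax : ∀ K : Subgroup G, C ≤ K → ∀ x ∈ P, x ∈ K → x ∉ C → P ≤ K := by
    intro K hK x hxP hxK hxC
    rw [← relIndex_eq_one]
    have h1 : C.relIndex P = p := by rw [inf_relIndex_left, hCp]
    have h2 := relIndex_mul_relIndex C (P ⊓ K) P (le_inf inf_le_left hK) inf_le_left
    rw [h1, inf_relIndex_left] at h2
    refine ((Nat.dvd_prime hp).mp (Dvd.intro_left _ h2)).resolve_right fun e => hxC ?_
    rw [e] at h2
    have h3 : C.relIndex (P ⊓ K) = 1 := Nat.eq_of_mul_eq_mul_right hp.pos (h2.trans (one_mul p).symm)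
    exact relIndex_eq_one.mp h3 (mem_inf.mpr ⟨hxP, hxK⟩)
  have hCab : ∀ x ∈ C, ∀ y ∈ C, Commute x y := by
    intro x hx y hy
    obtain ⟨hxP, hxh⟩ := mem_inf.mp hx
    have hxπ : IsPi {p} x := by
      obtain ⟨j, hj⟩ := IsPGroup.iff_orderOf.mp S.isPGroup' ⟨x, hxP⟩
      exact isPi_singleton_iff.mpr ⟨j, by rwa [Subgroup.orderOf_mk] at hj⟩
    have hC' := Cx_mul_eq_inf hxπ hhπ (mem_Cx.mp hxh)
    have h1 := hrel (x * h)
    rw [hC'] at h1
    have h2 := relIndex_mul_relIndex (P ⊓ (centralizer ({x} : Set G) ⊓ centralizer ({h} : Set G))) C P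
      (le_inf inf_le_left (inf_le_right.trans inf_le_right)) inf_le_left
    rw [inf_relIndex_left, inf_relIndex_left, hCp] at h2
    have h3 : (P ⊓ (centralizer ({x} : Set G) ⊓ centralizer ({h} : Set G))).relIndex C = 1 := by
      rw [← h2] at h1
      exact Nat.dvd_one.mp (Nat.dvd_of_mul_dvd_mul_right hp.pos (by rwa [one_mul]))
    have := relIndex_eq_one.mp h3 hy
    exact ((mem_Cx.mp (mem_inf.mp (mem_inf.mp this).2).1) : Commute y x).symm
  have hwmem : ∀ u ∈ P, ⁅h, u⁆ ∈ P := fun u hu => by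
    rw [commutatorElement_def]
    exact mul_mem ((inferInstance : P.Normal).conj_mem u hu h) (inv_mem hu)
  have hwC : ∀ u ∈ P, ⁅h, u⁆ ∈ C → ⁅h, u⁆ = 1 := by
    intro u hu hw
    obtain ⟨hwP, hwh⟩ := mem_inf.mp hw
    set w := ⁅h, u⁆ with hwdef
    have e1 : h * u * h⁻¹ = w * u := by rw [hwdef, commutatorElement_def]; group
    have e2 : ∀ i : ℕ, h ^ i * u * (h ^ i)⁻¹ = w ^ i * u := by
      intro i
      induction i with
      | zero => simp
      | succ i ih =>
        calc h ^ (i + 1) * u * (h ^ (i + 1))⁻¹ = h * (h ^ i * u * (h ^ i)⁻¹) * h⁻¹ := by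
              rw [pow_succ']; group
          _ = (h * w ^ i * h⁻¹) * (h * u * h⁻¹) := by rw [ih]; group
          _ = w ^ i * (w * u) := by
              rw [e1, (Commute.pow_left (show Commute w h from mem_Cx.mp hwh) i).eq.symm, mul_inv_cancel_right]
          _ = w ^ (i + 1) * u := by rw [pow_succ, mul_assoc]
    have e3 : w ^ orderOf h = 1 := by
      have := e2 (orderOf h)
      rw [pow_orderOf_eq_one, inv_one, one_mul, mul_one] at this
      exact mul_eq_right.mp this.symm
    obtain ⟨j, hj⟩ := IsPGroup.iff_orderOf.mp S.isPGroup' ⟨w, hwP⟩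
    rw [Subgroup.orderOf_mk] at hj
    refine orderOf_eq_one_iff.mp (Nat.eq_one_of_dvd_coprimes ?_ hj.dvd (orderOf_dvd_of_pow_eq_one e3))
    exact (hp.coprime_iff_not_dvd.mpr (isPiCompl_singleton_iff.mp hhπ)).pow_left j
  obtain ⟨u, huP, huC⟩ : ∃ u ∈ P, u ∉ C := ⟨a₀, ha₀, fun hc => hha (mem_Cx.mp (mem_inf.mp hc).2 : Commute a₀ h).symm⟩
  set w := ⁅h, u⁆
  have hwC' : w ∉ C := fun hw => by
    have := hwC u huP hw
    exact huC (mem_inf.mpr ⟨huP, mem_Cx.mpr (commutatorElement_eq_one_iff_commute.mp this).eq.symm⟩)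
  -- `P` is abelian
  have hPab : ∀ x ∈ P, ∀ y ∈ P, Commute x y := by
    have hCw : ∀ a ∈ C, Commute a w := by
      intro a ha
      obtain ⟨haP, hah⟩ := mem_inf.mp ha
      have hz : ⁅a, u⁆ ∈ C := by
        refine mem_inf.mpr ⟨?_, ?_⟩
        · rw [commutatorElement_def]
          exact mul_mem (mul_mem (mul_mem haP huP) (inv_mem haP)) (inv_mem huP)
        · have hK : (P ⊓ centralizer ({h} : Set G)).subgroupOf P = (centralizer ({h} : Set G)).subgroupOf P := by
            ext y; simp [mem_subgroupOf]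
          haveI : ((centralizer ({h} : Set G)).subgroupOf P).Normal := by
            obtain ⟨j, hj⟩ := IsPGroup.iff_card.mp S.isPGroup'
            have hj0 : j ≠ 0 := fun e => by
              have := hCp ▸ relIndex_dvd_card (centralizer ({h} : Set G)) P
              rw [show Nat.card P = p ^ j from hj, e, pow_zero, Nat.dvd_one] at this
              exact hp.ne_one this
            haveI : Group.IsNilpotent P := S.isPGroup'.isNilpotent
            exact normal_of_index_eq_minFac_card (by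
              rw [show Nat.card P = p ^ j from hj, hp.pow_minFac hj0]; exact hCp)
          haveI : IsCyclic (P ⧸ (centralizer ({h} : Set G)).subgroupOf P) :=
            isCyclic_of_prime_card (p := p) hCp
          have h1 := (Normal.quotient_commutative_iff_commutator_le
            (N := (centralizer ({h} : Set G)).subgroupOf P)).mp inferInstance
            (commutator_mem_commutator (mem_top (⟨a, haP⟩ : P)) (mem_top (⟨u, huP⟩ : P)))
          exact mem_subgroupOf.mp h1
      have e1 : h * u * h⁻¹ = w * u := by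
        show h * u * h⁻¹ = ⁅h, u⁆ * u
        rw [commutatorElement_def]; group
      have e2 : ⁅a, w * u⁆ = ⁅a, u⁆ := by
        rw [← e1]
        calc ⁅a, h * u * h⁻¹⁆ = h * ⁅h⁻¹ * a * h, u⁆ * h⁻¹ := by simp only [commutatorElement_def]; group
          _ = h * ⁅a, u⁆ * h⁻¹ := by
              rw [mul_assoc h⁻¹, mem_Cx.mp hah, inv_mul_cancel_left]
          _ = ⁅a, u⁆ := by
              rw [← (mem_Cx.mp (mem_inf.mp hz).2), mul_inv_cancel_right]
      rw [show ⁅a, w * u⁆ = ⁅a, w⁆ * (w * ⁅a, u⁆ * w⁻¹) by simp only [commutatorElement_def]; group,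
        (hcenP a haP u huP w (hwmem u huP)).eq, mul_inv_cancel_right] at e2
      exact commutatorElement_eq_one_iff_commute.mp (mul_eq_right.mp e2)
    have hCcen : ∀ a ∈ C, ∀ y ∈ P, Commute a y := by
      intro a ha y hy
      have h1 : P ≤ centralizer ({a} : Set G) := hmax _ (fun c hc => mem_Cx.mpr (hCab c hc a ha).eq)
        w (hwmem u huP) (mem_Cx.mpr (hCw a ha).eq.symm) hwC'
      exact (mem_Cx.mp (h1 hy) : Commute y a).symm
    intro x hx y hy
    by_cases hxC : x ∈ C
    · exact hCcen x hxC y hy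
    have h1 : P ≤ centralizer ({x} : Set G) := hmax _ (fun c hc => mem_Cx.mpr (hCcen c hc x hx).eq)
      x hx (mem_Cx_self x) hxC
    exact (mem_Cx.mp (h1 hy) : Commute y x).symm
  haveI : IsMulCommutative P := ⟨⟨fun x y => Subtype.ext (hPab x x.2 y y.2).eq⟩⟩
  have hsize := card_range_le_prime (A := P) S.isPGroup' hsq
  set L := (commHom P h).range with hL
  have hwL : w ∈ L := ⟨⟨u, huP⟩, rfl⟩
  have hw1 : w ≠ 1 := fun e => hwC' (e ▸ one_mem C)
  have hline : ∀ k ∈ H, (commHom P k).range ≤ L := by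
    intro k hk
    by_cases hk0 : (commHom P k).range = ⊥
    · rw [hk0]; exact bot_le
    by_cases hker : (commHom P k).ker = (commHom P h).ker
    · have h1 : ⁅k, w⁆ ∈ L := by
        rw [commutatorElement_def]
        exact mul_mem (conj_mem_range (k := k) (g := h) (by rw [(hHc k hk h hhH).eq, mul_inv_cancel_right]) hwL)
          (inv_mem hwL)
      have h2 : ⁅k, w⁆ ≠ 1 := fun e => hwC' (by
        have h3 : (⟨w, hwmem u huP⟩ : P) ∈ (commHom P h).ker := hker ▸ (MonoidHom.mem_ker.mpr e)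
        rw [mem_commHom_ker] at h3
        exact mem_inf.mpr ⟨hwmem u huP, mem_Cx.mpr h3.eq.symm⟩)
      exact (eq_of_mem_of_ne_one (hsize k) (hsize h) h2 ⟨⟨w, hwmem u huP⟩, rfl⟩ h1).le
    · exact (range_eq_of_ker_ne hsize hk0 (fun e => hw1 (mem_bot.mp (e ▸ hwL))) hker).le
  have hle : _root_.commutator G ≤ L := by
    rw [_root_.commutator_def, Subgroup.commutator_le]
    rintro g - g' -
    obtain ⟨a, ha, k, hk, rfl⟩ := hdec g
    obtain ⟨b, hb, l, hl, rfl⟩ := hdec g'
    have e : ⁅a * k, b * l⁆ = ⁅k, b⁆ * ⁅l, a⁻¹⁆ := by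
      have hkl : k * l * k⁻¹ = l := by rw [(hHc k hk l hl).eq, mul_inv_cancel_right]
      have hx : ⁅k, b⁆ ∈ P := commHom_range_le (A := P) k ⟨⟨b, hb⟩, rfl⟩
      have hy : ⁅l, a⁻¹⁆ ∈ P := commHom_range_le (A := P) l ⟨⟨a⁻¹, inv_mem ha⟩, rfl⟩
      calc ⁅a * k, b * l⁆ = a * ⁅k, b⁆ * (b * ((k * l * k⁻¹) * a⁻¹ * l⁻¹) * b⁻¹) := by
            simp only [commutatorElement_def]; group
        _ = a * ⁅k, b⁆ * (b * (⁅l, a⁻¹⁆ * a⁻¹) * b⁻¹) := by
            rw [hkl]; simp only [commutatorElement_def]; group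
        _ = a * ⁅k, b⁆ * (⁅l, a⁻¹⁆ * a⁻¹) := by
            rw [(hPab b hb _ (mul_mem hy (inv_mem ha))).eq, mul_inv_cancel_right]
        _ = a * (⁅k, b⁆ * ⁅l, a⁻¹⁆) * a⁻¹ := by group
        _ = _ := by rw [(hPab a ha _ (mul_mem hx hy)).eq, mul_inv_cancel_right]
    rw [e]
    exact mul_mem (hline k hk ⟨⟨b, hb⟩, rfl⟩) (hline l hl ⟨⟨a⁻¹, inv_mem ha⟩, rfl⟩)
  exact (card_dvd_of_le hle).trans (hsize h)

end CfsgLib.SquarefreeClasses69
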